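import Mathlib
import Cfsg.Agent.E3.F0a
import Cfsg.Agent.GT.PiGroups

/-!
The hypotheses of S3337 give the linear model.
-/

set_option autoImplicit false
set_option linter.unusedSectionVars false

namespace Cfsg.Agent.E3

open Cfsg.Agent.Spor Cfsg.Agent.Rec Cfsg.Agent.Inv.Fz Cfsg.Agent.GT.PG Cfsg.Agent.T16 Subgroup
open Cfsg.Agent.T3 hiding F3 HF FJ
open scoped commutatorElement

universe u

namespace F0

/-- A product of some of three elements. -/
def pr {A : Type*} [Monoid A] (z : Fin 3 → A) (s : Fin 3 → Bool) : A :=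
  (if s 0 then z 0 else 1) * (if s 1 then z 1 else 1) * (if s 2 then z 2 else 1)

theorem map_pr {A B : Type*} [Monoid A] [Monoid B] (f : A →* B) (z : Fin 3 → A) (s : Fin 3 → Bool) :
    f (pr z s) = pr (fun i => f (z i)) s := by
  simp only [pr, map_mul, apply_ite f, map_one]

/-- A sign. -/
def sg (b : Bool) : ZMod 3 := if b then -1 else 1

/-- The value of a character on a product. -/
def ch (e s : Fin 3 → Bool) : ZMod 3 := pr (fun i => sg (e i)) s

theorem ch_cases : ∀ e s, ch e s = 1 ∨ ch e s = -1 := by decide +kernel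
theorem ex_s : ∀ e e', ∃ s, s ≠ (fun _ => false) ∧ ch e s = 1 ∧ ch e' s = 1 := by decide +kernel
theorem ex_dual : ∀ e0 e1 e2, (∃ s, ch e0 s = -1) → (∃ s, ch e0 s = 1 ∧ ch e1 s = -1) →
    (∃ s, ch e0 s = 1 ∧ ch e1 s = 1 ∧ ch e2 s = -1) →
    (∃ s, ch e0 s = -1 ∧ ch e1 s = 1 ∧ ch e2 s = 1) ∧ ∃ s, ch e0 s = 1 ∧ ch e1 s = -1 ∧ ch e2 s = 1 := by
  decide +kernel

abbrev Q8c := QuaternionGroup 2 × QuaternionGroup 2 × QuaternionGroup 2

/-- The three central involutions. -/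
def zt : Fin 3 → Q8c := ![(.a 2, 1, 1), (1, .a 2, 1), (1, 1, .a 2)]

theorem zt_c : ∀ i w, zt i * (w * zt i * w⁻¹)⁻¹ = 1 := by decide +kernel
theorem zt_sq : ∀ i, zt i * zt i = 1 := by decide +kernel
theorem zt_ind : ∀ s, s ≠ (fun _ => false) → pr zt s ≠ 1 := by decide +kernel
theorem zt_all : ∀ w, w * w = 1 → ∃ s, w * (pr zt s)⁻¹ = 1 := by decide +kernel
theorem q8_four : ∀ w : Q8c, w ^ 4 = 1 := by decide +kernel

variable {G : Type u} [Group G] {a g k m c p q : G} {ε δ : ZMod 3}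

/-- `g` acts on `q` as the scalar `ε` modulo the centre. -/
def Act (a g : G) (ε : ZMod 3) (q : G) : Prop := ∀ y ∈ Q3 a, om a (g * q * g⁻¹) y = ε * om a q y

section
variable (h : ESZ 3 (Q3 a) a)
include h

theorem act_Q (hc : c ∈ Q3 a) (hq : q ∈ Q3 a) : Act a c 1 q := fun y hy => by
  rw [om_mul_left h (mul_mem hc hq) (inv_mem hc) hy, om_mul_left h hc hq hy, om_inv_left h hc hy]; ring

theorem om_tr (hg : g * a = a * g) (hp : p ∈ Q3 a) (hq : q ∈ Q3 a) :
    om a (g * p * g⁻¹) q = om a p (g⁻¹ * q * g⁻¹⁻¹) := by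
  rw [← om_conj h hg hp (S3E.cq (show Commute g a from hg).inv_left.eq hq)]
  congr 1; group

theorem act_mul (hg : g * a = a * g) (hk : k * a = a * k) (hq : q ∈ Q3 a) (e : Act a g ε q) (e' : Act a k δ q) :
    Act a (g * k) (ε * δ) q := fun y hy => by
  rw [show g * k * q * (g * k)⁻¹ = g * (k * q * k⁻¹) * g⁻¹ by group, om_tr h hg (S3E.cq hk hq) hy,
    e' _ (S3E.cq (show Commute g a from hg).inv_left.eq hy), ← om_tr h hg hq hy, e y hy]
  ring

theorem act_conj (hm : m * a = a * m) (hg : g * a = a * g) (hq : q ∈ Q3 a) (e : Act a g ε q) :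
    Act a (m * g * m⁻¹) ε (m * q * m⁻¹) := fun y hy => by
  rw [show m * g * m⁻¹ * (m * q * m⁻¹) * (m * g * m⁻¹)⁻¹ = m * (g * q * g⁻¹) * m⁻¹ by group,
    om_tr h hm (S3E.cq hg hq) hy, e _ (S3E.cq (show Commute m a from hm).inv_left.eq hy), ← om_tr h hm hq hy]

theorem mem_z (hq : q ∈ Q3 a) (e : ∀ y ∈ Q3 a, om a q y = 0) : q ∈ zpowers a :=
  h.mem_zpowers_of_forall_commute hq fun y hy => ((om_eq_zero h hq hy).1 (e y hy)).symm

theorem Act.one (hg : g * a = a * g) (hq : q ∈ Q3 a) (e : Act a g 1 q) : g * q * g⁻¹ * q⁻¹ ∈ zpowers a :=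
  mem_z h (mul_mem (S3E.cq hg hq) (inv_mem hq)) fun y hy => by
    rw [om_mul_left h (S3E.cq hg hq) (inv_mem hq) hy, om_inv_left h hq hy, e y hy]; ring

theorem Act.neg (hg : g * a = a * g) (hq : q ∈ Q3 a) (e : Act a g (-1) q) : g * q * g⁻¹ * q ∈ zpowers a :=
  mem_z h (mul_mem (S3E.cq hg hq) hq) fun y hy => by
    rw [om_mul_left h (S3E.cq hg hq) hq hy, e y hy]; ring

end

/-- Three elements of `M` that are central involutions modulo `Q3 a`. -/
structure Hy (a : G) (M : Subgroup G) (z : Fin 3 → G) : Prop where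
  esz : ESZ 3 (Q3 a) a
  card : Nat.card (Q3 a) = 3 ^ 7
  cen : centralizer (Q3 a : Set G) ≤ zpowers a
  le : ∀ g ∈ M, g * a = a * g
  zM : ∀ i, z i ∈ M
  zc : ∀ m ∈ M, ∀ i, z i * (m * z i * m⁻¹)⁻¹ ∈ Q3 a
  zz : ∀ i, z i * z i ∈ Q3 a
  ind : ∀ s, s ≠ (fun _ => false) → pr z s ∉ Q3 a
  all : ∀ m ∈ M, m * m ∈ Q3 a → ∃ s, m * (pr z s)⁻¹ ∈ Q3 a

namespace Hy

variable {M : Subgroup G} {z : Fin 3 → G} (h : Hy a M z) {S : Finset (Fin 3)} {e e' s : Fin 3 → Bool}
include h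

theorem za (i : Fin 3) : z i * a = a * z i := h.le _ (h.zM i)

/-- The common eigenspaces. -/
def W (S : Finset (Fin 3)) (e : Fin 3 → Bool) : Subgroup G where
  carrier := {q | q ∈ Q3 a ∧ ∀ i ∈ S, Act a (z i) (sg (e i)) q}
  one_mem' := ⟨one_mem _, fun i _ y hy => by
    rw [mul_one, mul_inv_cancel, om_z_left h.esz (one_mem _) hy, mul_zero]⟩
  mul_mem' := fun {p q} hp hq => ⟨mul_mem hp.1 hq.1, fun i hi y hy => by
    rw [← conj_mul, om_mul_left h.esz (S3E.cq (h.za i) hp.1) (S3E.cq (h.za i) hq.1) hy, hp.2 i hi y hy,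
      hq.2 i hi y hy, om_mul_left h.esz hp.1 hq.1 hy, mul_add]⟩
  inv_mem' := fun {p} hp => ⟨inv_mem hp.1, fun i hi y hy => by
    rw [← conj_inv, om_inv_left h.esz (S3E.cq (h.za i) hp.1) hy, hp.2 i hi y hy, om_inv_left h.esz hp.1 hy,
      mul_neg]⟩

theorem z_le : zpowers a ≤ h.W S e := fun c hc => ⟨h.esz.zpowers_le hc, fun i _ y hy => by
  rw [conj_z (h.za i) hc, om_z_left h.esz hc hy, mul_zero]⟩

theorem norm (hm : m ∈ M) (hq : q ∈ h.W S e) : m * q * m⁻¹ ∈ h.W S e := by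
  have ma := h.le m hm
  refine ⟨S3E.cq ma hq.1, fun i hi => ?_⟩
  have c := h.zc m hm i
  have := act_mul h.esz (h.esz.commute_z c).eq (h.le _ (mul_mem (mul_mem hm (h.zM i)) (inv_mem hm)))
    (S3E.cq ma hq.1) (act_Q h.esz c (S3E.cq ma hq.1)) (act_conj h.esz ma (h.za i) hq.1 (hq.2 i hi))
  rwa [inv_mul_cancel_right, one_mul] at this

/-- The eigenspaces span. -/
theorem span {φ : G → ZMod 3} (hφ : ∀ p ∈ Q3 a, ∀ q ∈ Q3 a, φ (p * q) = φ p + φ q) (S : Finset (Fin 3)) :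
    (∀ e, ∀ q ∈ h.W S e, φ q = 0) → ∀ q ∈ Q3 a, φ q = 0 := by
  induction S using Finset.induction_on with
  | empty => exact fun k q hq => k (fun _ => true) q ⟨hq, by simp⟩
  | insert i S hi ih =>
    refine fun k => ih fun e q hq => ?_
    have hq' := h.norm (h.zM i) hq
    have mem : ∀ p ∈ h.W S e, ∀ b, Act a (z i) (sg b) p → φ p = 0 := fun p hp b hb =>
      k (Function.update e i b) p ⟨hp.1, fun j hj => by
        rcases Finset.mem_insert.1 hj with rfl | hj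
        · rwa [Function.update_self]
        · rw [Function.update_of_ne (ne_of_mem_of_not_mem hj hi)]; exact hp.2 j hj⟩
    have two : ∀ y ∈ Q3 a, om a (z i * (z i * q * (z i)⁻¹) * (z i)⁻¹) y = om a q y := fun y hy => by
      rw [← one_mul (om a q y), ← act_Q h.esz (h.zz i) hq.1 y hy]; congr 1; group
    have c2 := S3E.cq (h.za i) hq'.1
    have e1 := mem _ (mul_mem hq hq') false fun y hy => by
      rw [← conj_mul, om_mul_left h.esz hq'.1 c2 hy, two y hy, om_mul_left h.esz hq.1 hq'.1 hy, sg]; simp [add_comm]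
    have e2 := mem _ (mul_mem (inv_mem hq') hq) true fun y hy => by
      rw [← conj_mul, ← conj_inv, om_mul_left h.esz (inv_mem c2) hq'.1 hy, om_inv_left h.esz c2 hy, two y hy,
        om_mul_left h.esz (inv_mem hq'.1) hq.1 hy, om_inv_left h.esz hq'.1 hy, sg]; simp [add_comm]
    have e3 := hφ _ (mul_mem hq hq').1 _ (mul_mem (inv_mem hq') hq).1
    rw [e1, e2, ← mul_assoc, mul_inv_cancel_right, hφ q hq.1 q hq.1] at e3
    exact (by decide : ∀ x : ZMod 3, x + x = 0 + 0 → x = 0) _ e3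

theorem orth (hp : p ∈ h.W .univ e) (hq : q ∈ h.W .univ e') (n : e ≠ e') : p * q = q * p := by
  obtain ⟨i, hi⟩ := Function.ne_iff.1 n
  have e1 := om_conj h.esz (h.za i) hp.1 hq.1
  rw [hp.2 i (Finset.mem_univ _) _ (S3E.cq (h.za i) hq.1), om_swap h.esz (S3E.cq (h.za i) hq.1) hp.1,
    hq.2 i (Finset.mem_univ _) _ hp.1, om_swap h.esz hp.1 hq.1] at e1
  exact (om_eq_zero h.esz hp.1 hq.1).1
    ((by decide : ∀ b b' : Bool, ∀ x : ZMod 3, b ≠ b' → sg b * -(sg b' * -x) = x → x = 0) _ _ _ hi e1)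

theorem pair (hp : p ∈ h.W .univ e) (n : p ∉ zpowers a) : ∃ y ∈ h.W .univ e, ⁅p, y⁆ = a := by
  by_contra hn
  refine n (mem_z h.esz hp.1 (h.span (fun _ a _ b => om_mul_right h.esz hp.1 a b) .univ fun e' y hy => ?_))
  by_cases k : e = e'
  swap
  · exact (om_eq_zero h.esz hp.1 hy.1).2 (h.orth hp hy k)
  subst k
  rcases (by decide : ∀ x : ZMod 3, x = 0 ∨ x = 1 ∨ -x = 1) (om a p y) with k | k | k
  · exact k
  · exact (hn ⟨y, hy, comm_of_om h.esz hp.1 hy.1 k⟩).elim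
  · exact (hn ⟨y⁻¹, inv_mem hy, comm_of_om h.esz hp.1 (inv_mem hy.1) (by rwa [om_inv_right h.esz hp.1 hy.1])⟩).elim

theorem pr_mem (s : Fin 3 → Bool) : pr z s ∈ M := by
  have : ∀ i, (if s i then z i else 1) ∈ M := fun i => by split_ifs; exacts [h.zM i, one_mem _]
  exact mul_mem (mul_mem (this 0) (this 1)) (this 2)

theorem act_pr (hq : q ∈ h.W .univ e) (s : Fin 3 → Bool) : Act a (pr z s) (ch e s) q := by
  have m : ∀ i, (if s i then z i else 1) ∈ M := fun i => by split_ifs; exacts [h.zM i, one_mem _]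
  have k : ∀ i, Act a (if s i then z i else 1) (if s i then sg (e i) else 1) q := fun i => by
    split_ifs; exacts [hq.2 i (Finset.mem_univ _), act_Q h.esz (one_mem _) hq.1]
  exact act_mul h.esz (h.le _ (mul_mem (m 0) (m 1))) (h.le _ (m 2)) hq.1
    (act_mul h.esz (h.le _ (m 0)) (h.le _ (m 1)) hq.1 (k 0) (k 1)) (k 2)

variable [Finite G]

theorem mem_Q (hg : g * a = a * g) (e : ∀ q ∈ Q3 a, g * q * g⁻¹ * q⁻¹ ∈ zpowers a) : g ∈ Q3 a :=
  sup_le le_rfl (h.cen.trans h.esz.zpowers_le) (h.esz.mem_sup_centralizer hg e)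

theorem exists_ev (hs : s ≠ fun _ => false) : ∃ e, ch e s = -1 ∧ ∃ x ∈ h.W .univ e, ∃ y ∈ h.W .univ e, ⁅x, y⁆ = a := by
  by_contra hn
  have ma := h.le _ (h.pr_mem s)
  refine h.ind s hs (h.mem_Q ma fun q hq => Act.one h.esz ma hq fun y hy => ?_)
  rw [one_mul, ← sub_eq_zero]
  refine h.span (φ := fun q => om a (pr z s * q * (pr z s)⁻¹) y - om a q y) (fun p hp q hq => ?_) .univ
    (fun e x hx => ?_) q hq
  · rw [← conj_mul, om_mul_left h.esz (S3E.cq ma hp) (S3E.cq ma hq) hy, om_mul_left h.esz hp hq hy]; ring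
  rw [h.act_pr hx s y hy]
  rcases ch_cases e s with k | k
  · rw [k]; ring
  · rw [om_z_left h.esz (by_contra fun n => hn ⟨e, k, x, hx, h.pair hx n⟩) hy]; ring

theorem exists_basis : ∃ (E s : Fin 3 → Fin 3 → Bool) (x y : Fin 3 → G),
    (∀ i j, ch (E i) (s j) = if i = j then -1 else 1) ∧
      ∀ i, x i ∈ h.W .univ (E i) ∧ y i ∈ h.W .univ (E i) ∧ ⁅x i, y i⁆ = a := by
  obtain ⟨e0, k0, x0, hx0, y0, hy0, c0⟩ := h.exists_ev (s := fun _ => true) (by decide)
  obtain ⟨s1, n1, k1, -⟩ := ex_s e0 e0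
  obtain ⟨e1, k2, x1, hx1, y1, hy1, c1⟩ := h.exists_ev n1
  obtain ⟨s2, n2, k3, k4⟩ := ex_s e0 e1
  obtain ⟨e2, k5, x2, hx2, y2, hy2, c2⟩ := h.exists_ev n2
  obtain ⟨⟨t0, l0⟩, t1, l1⟩ := ex_dual e0 e1 e2 ⟨_, k0⟩ ⟨_, k1, k2⟩ ⟨_, k3, k4, k5⟩
  refine ⟨![e0, e1, e2], ![t0, t1, s2], ![x0, x1, x2], ![y0, y1, y2], fun i j => ?_, fun i => ?_⟩
  · fin_cases i <;> fin_cases j
    exacts [l0.1, l1.1, k3, l0.2.1, l1.2.1, k4, l0.2.2, l1.2.2, k5]
  · fin_cases i
    exacts [⟨hx0, hy0, c0⟩, ⟨hx1, hy1, c1⟩, ⟨hx2, hy2, c2⟩]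

theorem nonempty {R : Subgroup G} (M_eq : Q3 a ⊔ R = M) (cardR : Nat.card R = 512)
    (Mn : ∀ g, g * a = a * g → ∀ m ∈ M, g * m * g⁻¹ ∈ M)
    (max : ∀ N : Subgroup G, (∀ g ∈ N, g * a = a * g) → (∀ g, g * a = a * g → ∀ m ∈ N, g * m * g⁻¹ ∈ N) →
      (∀ m ∈ N, m ^ 4 ∈ Q3 a) → N ≤ M) (four : ∀ m ∈ M, m ^ 4 ∈ Q3 a) : Nonempty (S3E a) := by
  obtain ⟨E, s, x, y, hE, hx⟩ := h.exists_basis
  have cm : ∀ i j, i ≠ j → ∀ u ∈ h.W .univ (E i), ∀ v ∈ h.W .univ (E j), u * v = v * u :=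
    fun i j hij u hu v hv => h.orth hu hv fun e => by
      have := hE j i
      rw [← e, hE, if_pos rfl, if_neg hij.symm] at this
      exact absurd this (by decide)
  have sp : ∀ {K : Subgroup G} {i j}, i ≠ j → h.W .univ (E i) ≤ K →
      h.W .univ (E i) ≤ K ⊓ centralizer {x j} ⊓ centralizer {y j} := fun {K i j} n k u hu =>
    ⟨⟨k hu, mem_centralizer_singleton_iff.2 (cm i j n u hu _ (hx j).1)⟩,
      mem_centralizer_singleton_iff.2 (cm i j n u hu _ (hx j).2.1)⟩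
  have l2 : h.W .univ (E 2) ≤ Q3 a := fun _ k => k.1
  have l1 := sp (i := 1) (j := 2) (by decide) fun _ k => k.1
  have l0 := sp (j := 1) (by decide) (sp (i := 0) (j := 2) (by decide) fun _ k => k.1)
  have s2 := h.esz.split (l2 (hx 2).1) (l2 (hx 2).2.1) (hx 2).2.2
  have s1 := s2.split (l1 (hx 1).1) (l1 (hx 1).2.1) (hx 1).2.2
  have s0 := s1.split (l0 (hx 0).1) (l0 (hx 0).2.1) (hx 0).2.2
  have c2 := h.esz.card_split (l2 (hx 2).1) (l2 (hx 2).2.1) (hx 2).2.2
  have c1 := s2.card_split (l1 (hx 1).1) (l1 (hx 1).2.1) (hx 1).2.2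
  have c0 := s1.card_split (l0 (hx 0).1) (l0 (hx 0).2.1) (hx 0).2.2
  have z0 := s0.eq_zpowers_iff_card.2 (by have := h.card; omega)
  have key : ∀ i, ∀ u ∈ h.W .univ (E i), u * x i = x i * u → u * y i = y i * u → u ∈ zpowers a := by
    intro i u hu e1 e2
    have k : ∀ j, u ∈ centralizer {x j} ∧ u ∈ centralizer {y j} := fun j => by
      simp only [mem_centralizer_singleton_iff]
      by_cases n : i = j
      exacts [n ▸ ⟨e1, e2⟩, ⟨cm i j n u hu _ (hx j).1, cm i j n u hu _ (hx j).2.1⟩]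
    exact z0 ▸ ⟨⟨⟨⟨⟨⟨hu.1, (k 2).1⟩, (k 2).2⟩, (k 1).1⟩, (k 1).2⟩, (k 0).1⟩, (k 0).2⟩
  have es : ∀ i, ESZ 3 (h.W .univ (E i)) a := fun i =>
    ⟨h.esz.orderOf_z, fun u hu v hv => h.esz.comm_mem u hu.1 v hv.1, fun u hu => h.esz.pow_mem u hu.1,
      le_antisymm (fun u hu => key i u hu.1 (hu.2 _ (hx i).1).symm (hu.2 _ (hx i).2.1).symm)
        (le_inf h.z_le fun c hc u hu => (h.esz.commute_of_mem_zpowers hu.1 hc).eq)⟩
  refine ⟨{ P := fun i => h.W .univ (E i)
            x := x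
            y := y
            M := M
            R := R
            esz := h.esz
            card := h.card
            cen := h.cen
            p27 := fun i => ⟨es i, ?_, (hx i).1, (hx i).2.1, (hx i).2.2⟩
            le := fun i _ k => k.1
            comm := cm
            dec := fun q hq => ?_
            M_le := h.le
            M_eq := M_eq
            cardR := cardR
            Mn := Mn
            max := max
            norm := fun m hm i q hq => h.norm hm hq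
            exp4 := fun m hm i q hq => h.esz.comm_mem _ (four m hm) q hq.1
            inv := fun m hm i k => ?_
            cent := fun i => ⟨pr z (s i), h.pr_mem _, fun q hq => ?_, fun j n q hq => ?_⟩ }⟩
  · rw [(es i).card_split (hx i).1 (hx i).2.1 (hx i).2.2, le_antisymm (fun u hu => key i u hu.1.1
      (mem_centralizer_singleton_iff.1 hu.1.2) (mem_centralizer_singleton_iff.1 hu.2))
      ((es i).zpowers_le_split (hx i).1 (hx i).2.1), h.esz.card_zpowers]
    norm_num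
  · obtain ⟨r2, h2, i2, j2, rfl⟩ := h.esz.exists_decomp (l2 (hx 2).1) (l2 (hx 2).2.1) (hx 2).2.2 hq
    obtain ⟨r1, h1, i1, j1, rfl⟩ := s2.exists_decomp (l1 (hx 1).1) (l1 (hx 1).2.1) (hx 1).2.2 h2
    obtain ⟨r0, h0, i0, j0, rfl⟩ := s1.exists_decomp (l0 (hx 0).1) (l0 (hx 0).2.1) (hx 0).2.2 h1
    refine ⟨![r0 * x 0 ^ i0 * y 0 ^ j0, x 1 ^ i1 * y 1 ^ j1, x 2 ^ i2 * y 2 ^ j2], fun i => ?_, by simp [mul_assoc]⟩
    fin_cases i
    exacts [mul_mem (mul_mem (h.z_le (z0 ▸ h0)) (zpow_mem (hx 0).1 _)) (zpow_mem (hx 0).2.1 _),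
      mul_mem (zpow_mem (hx 1).1 _) (zpow_mem (hx 1).2.1 _), mul_mem (zpow_mem (hx 2).1 _) (zpow_mem (hx 2).2.1 _)]
  · have ma := h.le m hm
    obtain ⟨t, ht⟩ := h.all m hm (pow_two m ▸ h.mem_Q (h.le _ (pow_mem hm 2)) k)
    have ac : ∀ q ∈ h.W .univ (E i), Act a m (ch (E i) t) q := fun q hq => by
      have := act_mul h.esz (h.esz.commute_z ht).eq (h.le _ (h.pr_mem t)) hq.1 (act_Q h.esz ht hq.1) (h.act_pr hq t)
      rwa [inv_mul_cancel_right, one_mul] at this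
    rcases ch_cases (E i) t with e | e <;> rw [e] at ac
    exacts [.inl fun q hq => Act.one h.esz ma hq.1 (ac q hq), .inr fun q hq => Act.neg h.esz ma hq.1 (ac q hq)]
  · have := h.act_pr hq (s i)
    rw [hE, if_pos rfl] at this
    exact Act.neg h.esz (h.le _ (h.pr_mem _)) hq.1 this
  · have := h.act_pr hq (s i)
    rw [hE, if_neg n] at this
    exact Act.one h.esz (h.le _ (h.pr_mem _)) hq.1 this

end Hy

end F0

open F0

/-- The hypotheses of S3337 give the linear model. -/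
theorem exists_F3 {G : Type u} [Group G] [Finite G]
    (H : Subgroup G) (Q : Subgroup H) (hQF : Q = Cfsg.generalizedFittingSubgroup H) [hQn : Q.Normal]
    (hQex : Cfsg.IsExtraspecial 3 Q) (hQcard : Nat.card Q = 3 ^ 7)
    (hZZ : (Subgroup.center Q).map Q.subtype = Subgroup.center H)
    (eO : Cfsg.pCore 2 (H ⧸ Q) ≃* QuaternionGroup 2 × QuaternionGroup 2 × QuaternionGroup 2)
    (Z : Subgroup G) (hZ : Z = (Subgroup.center H).map H.subtype) (hHC : H = Subgroup.centralizer (Z : Set G)) :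
    ∃ a : G, Z = zpowers a ∧ (Cfsg.pCore 3 H).map H.subtype = Q3 a ∧ Nonempty (F3 a) := by
  have inj := H.subtype_injective
  obtain ⟨a, ha, -⟩ := exists_esz (hQex.of_mulEquiv (equivMapOfInjective _ _ inj))
  have Za : Z = zpowers a := by
    rw [← ha.center_eq, hZ, ← hZZ, map_center_subtype']
    ext g
    constructor
    · rintro ⟨h, ⟨h1, h2⟩, rfl⟩
      refine ⟨⟨h, h1, rfl⟩, ?_⟩
      rintro _ ⟨k, hk, rfl⟩
      exact congrArg Subtype.val (h2 k hk)
    · rintro ⟨⟨h, h1, rfl⟩, h2⟩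
      exact ⟨h, ⟨h1, fun k hk => Subtype.ext (h2 k ⟨k, hk, rfl⟩)⟩, rfl⟩
  have hH' : H = centralizer {a} := by rw [hHC, Za, zpowers_eq_closure, centralizer_closure]
  have eq : Q = pCore 3 H := le_antisymm (GT.le_pCore hQex.1.1) (hQF ▸ GT.pCore_le_genFitting Nat.prime_three)
  have eQ : Q.map H.subtype = Q3 a := by rw [eq, Q3, pCoreOf, hH']
  refine ⟨a, Za, eq ▸ eQ, ?_⟩
  rw [eQ] at ha
  have cH : ∀ g, g ∈ H ↔ g * a = a * g := fun g => by rw [hH', mem_centralizer_singleton_iff]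
  have qH : ∀ h : H, h ∈ Q ↔ (h : G) ∈ Q3 a := fun h => by rw [← eQ]; exact (mem_map_iff_mem inj).symm
  set P := (pCore 2 (H ⧸ Q)).comap (QuotientGroup.mk' Q) with hP
  let f : P →* Q8c := eO.toMonoidHom.comp ((QuotientGroup.mk' Q).subgroupComap _)
  let ι : P →* G := H.subtype.comp P.subtype
  have key : ∀ m : P, ι m ∈ Q3 a ↔ f m = 1 := fun m =>
    (qH m).symm.trans ((QuotientGroup.eq_one_iff _).symm.trans
      ⟨fun e => eO.map_eq_one_iff.2 (Subtype.ext e), fun e => congrArg Subtype.val (eO.map_eq_one_iff.1 e)⟩)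
  have sur : Function.Surjective f := eO.surjective.comp
    (MonoidHom.subgroupComap_surjective_of_surjective _ _ (QuotientGroup.mk'_surjective Q))
  choose z hz using fun i => sur (zt i)
  have eM : ι.range = P.map H.subtype := by rw [MonoidHom.range_comp, range_subtype]
  have cP : Nat.card P = 2 ^ 9 * 3 ^ 7 := by
    rw [hP, GT.card_comap_mk', Nat.card_congr eO.toEquiv, hQcard, Nat.card_prod, Nat.card_prod,
      Nat.card_eq_fintype_card, QuaternionGroup.card]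
    norm_num
  have QP : Q ≤ P := fun q hq => by
    rw [hP, mem_comap, QuotientGroup.mk'_apply, (QuotientGroup.eq_one_iff q).2 hq]; exact one_mem _
  have Pn : P.Normal := Normal.comap inferInstance _
  obtain ⟨R, cR⟩ := Sylow.exists_subgroup_card_pow_prime 2 (G := P) (n := 9) (cP ▸ Dvd.intro _ rfl)
  have cR' : Nat.card ((R.map P.subtype).map H.subtype) = 512 := by
    rw [card_map_of_injective inj, card_map_of_injective P.subtype_injective, cR]; norm_num
  have cQ' : Nat.card (Q3 a) = 3 ^ 7 := by rw [← eQ, card_map_of_injective inj, hQcard]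
  have hy : Hy a ι.range fun i => ι (z i) :=
    { esz := ha
      card := cQ'
      cen := fun g hg => by
        have gH : g ∈ H := (cH g).2 (hg a ha.z_mem).symm
        have : (⟨g, gH⟩ : H) ∈ generalizedFittingSubgroup H := GT.centralizer_genFitting_le fun q hq =>
          Subtype.ext (hg q ((qH q).1 (hQF ▸ hq)))
        rw [← ha.center_eq]
        exact ⟨(qH _).1 (hQF ▸ this), hg⟩
      le := by rintro _ ⟨m, rfl⟩; exact (cH _).1 (m : H).2
      zM := fun i => ⟨_, rfl⟩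
      zc := by
        rintro _ ⟨m, rfl⟩ i
        simp only [← map_mul, ← map_inv, key]
        simp only [map_mul, map_inv, hz, zt_c]
      zz := fun i => by rw [← map_mul, key, map_mul, hz, zt_sq]
      ind := fun s hs => by
        rw [← map_pr, key, map_pr]
        simpa only [hz] using zt_ind s hs
      all := by
        rintro _ ⟨m, rfl⟩ e
        rw [← map_mul, key, map_mul] at e
        obtain ⟨s, hs⟩ := zt_all _ e
        exact ⟨s, by rw [← map_pr, ← map_inv, ← map_mul, key, map_mul, map_inv, map_pr]; simpa only [hz] using hs⟩ }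
  refine (hy.nonempty (R := (R.map P.subtype).map H.subtype) ?_ cR' ?_ (fun N h1 h2 h3 g hg => ?_) ?_).elim
    fun D => D.nonempty_F3
  · have le : Q3 a ⊔ (R.map P.subtype).map H.subtype ≤ P.map H.subtype :=
      sup_le (eQ ▸ map_mono QP) (map_mono (map_subtype_le _))
    refine (eq_of_le_of_card_ge le (Nat.le_of_dvd Nat.card_pos ?_)).trans eM.symm
    rw [card_map_of_injective inj, cP]
    refine Nat.Coprime.mul_dvd_of_dvd_of_dvd (by norm_num) ?_ ?_
    · exact (show 2 ^ 9 = 512 by norm_num).trans cR'.symm ▸ card_dvd_of_le le_sup_right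
    · exact cQ' ▸ card_dvd_of_le le_sup_left
  · rintro g hg _ ⟨m, rfl⟩
    exact ⟨⟨_, Pn.conj_mem m m.2 ⟨g, (cH g).2 hg⟩⟩, rfl⟩
  · have NH : N ≤ H := fun g hg => (cH g).2 (h1 g hg)
    have Nn : (N.subgroupOf H).Normal := ⟨fun m hm k => h2 k ((cH k).1 k.2) m hm⟩
    have := Nn.map (QuotientGroup.mk' Q) (QuotientGroup.mk'_surjective Q)
    have p2 : IsPGroup 2 ((N.subgroupOf H).map (QuotientGroup.mk' Q)) := by
      rintro ⟨_, m, hm, rfl⟩
      refine ⟨2, Subtype.ext ?_⟩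
      change QuotientGroup.mk' Q m ^ 2 ^ 2 = 1
      rw [← map_pow, QuotientGroup.mk'_apply, QuotientGroup.eq_one_iff, qH]
      exact h3 m hm
    exact ⟨⟨⟨g, NH hg⟩, GT.le_pCore p2 ⟨⟨g, NH hg⟩, hg, rfl⟩⟩, rfl⟩
  · rintro _ ⟨m, rfl⟩
    rw [← map_pow, key, map_pow, q8_four]

end Cfsg.Agent.E3
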