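import Mathlib
import Cfsg.Agent.E3.Bas

/-!
Orders of 3-subgroups of `C(a)` modulo `Q3 a`; the action of `R`; renumbering of the three factors.
-/

set_option autoImplicit false
set_option linter.unusedSectionVars false

namespace Cfsg.Agent.E3

open Cfsg.Agent.Spor Cfsg.Agent.Rec Cfsg.Agent.Inv.Fz Cfsg.Agent.GT.PG Subgroup
open Cfsg.Agent.T3 hiding F3 HF FJ
open Cfsg.Agent.T3.F3 (b_cmul b_cinv b_ccj b_norm b_cjQ b_Qc b_chi_one b_chi_cj b_mv b_mv1)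

universe u

variable {G : Type u} [Group G] [Finite G]

namespace F3

variable {a : G}

/-- `R` maps onto `Q₈³`. -/
theorem R_surj (F : F3 a) (m : Fin 3 → LB.S3) (h : ∀ i, m i ^ 4 = 1) : ∃ ρ ∈ F.R, ∀ i, F.mt ρ i = m i := by
  have hi : Function.Injective fun (ρ : F.R) (j : Fin 3) => (⟨F.mt ρ j, (F.pm_R ρ.2).2 j⟩ : {x : LB.S3 // x ^ 4 = 1}) :=
    fun x y e => Subtype.ext (F.b_R_ext x.2 y.2 fun j => congrArg Subtype.val (congrFun e j))
  obtain ⟨ρ, e⟩ := (hi.bijective_of_nat_card_le (by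
    rw [F.cardR, Nat.card_fun, Nat.card_eq_fintype_card, Fintype.card_subtype, LB.s_card]; simp)).2 fun j => ⟨m j, h j⟩
  exact ⟨ρ, ρ.2, fun i => congrArg Subtype.val (congrFun e i)⟩

theorem b_chi_inv (m : LB.S3) : chi m⁻¹ = - chi m := by
  rw [eq_neg_iff_add_eq_zero, ← chi_mul, inv_mul_cancel, b_chi_one]

theorem chi_comm (F : F3 a) {σ g : G} (hσ : σ * a = a * σ) (hg : g * a = a * g) (h : F.pm g = 1) (i : Fin 3) :
    chi (F.mt (σ * g * σ⁻¹ * g⁻¹) (F.pm σ i)) = chi (F.mt g i) - chi (F.mt g (F.pm σ i)) := by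
  rw [F.b_mt_mul (b_ccj hσ hg) (b_cinv hg) (by rw [F.pm_inv hg, h, inv_one]), chi_mul, F.b_mt_cj hσ hg h, b_chi_cj,
    F.b_mt_inv hg h, b_chi_inv, sub_eq_add_neg]

theorem chi_eq (F : F3 a) {σ g : G} (hσ : σ * a = a * σ) (h1 : F.pm σ ≠ 1) (h3 : F.pm σ ^ 3 = 1) (hg : g * a = a * g)
    (h : F.pm g = 1) (hc : σ * g * σ⁻¹ * g⁻¹ ∈ Q3 a) (i j : Fin 3) : chi (F.mt g i) = chi (F.mt g j) := by
  have k : ∀ π : Equiv.Perm (Fin 3), π ≠ 1 → π ^ 3 = 1 → ∀ s : Fin 3 → ZMod 3, (∀ i, 0 = s i - s (π i)) → ∀ i j, s i = s j := by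
    set_option synthInstance.maxSize 2000 in decide +kernel
  exact k _ h1 h3 (fun i => chi (F.mt g i)) (fun i => by rw [← F.chi_comm hσ hg h, F.b_mtQ hc, b_chi_one]) i j

theorem sum_of_const (F : F3 a) {σ g : G} (hσ : σ * a = a * σ) (h1 : F.pm σ ≠ 1) (h3 : F.pm σ ^ 3 = 1) (hg : g * a = a * g)
    (h : F.pm g = 1) (hc : ∀ i j, chi (F.mt (σ * g * σ⁻¹ * g⁻¹) i) = chi (F.mt (σ * g * σ⁻¹ * g⁻¹) j)) :
    ∑ i, chi (F.mt g i) = 0 := by
  have k : ∀ π : Equiv.Perm (Fin 3), π ≠ 1 → π ^ 3 = 1 → ∀ s : Fin 3 → ZMod 3,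
      (∀ i, s 0 - s (π 0) = s i - s (π i)) → s 0 + s 1 + s 2 = 0 := by
    set_option synthInstance.maxSize 2000 in decide +kernel
  rw [Fin.sum_univ_three]
  exact k _ h1 h3 (fun i => chi (F.mt g i)) fun i => by rw [← F.chi_comm hσ hg h, ← F.chi_comm hσ hg h, hc]

theorem pm_cube_of (F : F3 a) {T : Subgroup G} (hT : T ≤ centralizer {a}) (h3 : IsPGroup 3 T) {g : G} (hg : g ∈ T) :
    F.pm g ^ 3 = 1 :=
  LB.range_cube h3 (F.b_ph hT) (by simp [Fintype.card_perm, Nat.factorial]) ⟨g, hg⟩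

theorem idx_81 (F : F3 a) {T : Subgroup G} (hT : T ≤ centralizer {a}) (h3 : IsPGroup 3 T) : (Q3 a).relIndex T ≤ 81 := by
  rw [F.b_idx hT h3]
  exact Nat.mul_le_mul (Nat.le_of_dvd (by norm_num) (F.b_ch_dvd hT)) (Nat.le_of_dvd (by norm_num) (F.b_ph_dvd hT h3))

theorem idx_27 (F : F3 a) {T : Subgroup G} (hT : T ≤ centralizer {a}) (h3 : IsPGroup 3 T) (h : ∀ g ∈ T, F.pm g = 1) :
    (Q3 a).relIndex T ≤ 27 := by
  rw [F.b_idx hT h3, F.b_ph_one hT h, mul_one]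
  exact Nat.le_of_dvd (by norm_num) (F.b_ch_dvd hT)

/-- A bound from a bound on the values of `chi`. -/
theorem idx_of (F : F3 a) {T : Subgroup G} (hT : T ≤ centralizer {a}) (hp : IsPGroup 3 T) {X : Type} [Finite X]
    (f : (Fin 3 → ZMod 3) → X) (h : ∀ g ∈ T, F.pm g = 1 → ∀ g' ∈ T, F.pm g' = 1 →
      (f fun i => chi (F.mt g i)) = (f fun i => chi (F.mt g' i)) → ∀ i, chi (F.mt g i) = chi (F.mt g' i)) :
    (Q3 a).relIndex T ≤ Nat.card X * 3 ∧ ((∀ g ∈ T, F.pm g = 1) → (Q3 a).relIndex T ≤ Nat.card X) := by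
  have h : Nat.card (F.b_ch hT).range ≤ Nat.card X := by
    refine Nat.card_le_card_of_injective (fun x : (F.b_ch hT).range => f (Multiplicative.toAdd x.1)) ?_
    rintro ⟨_, x, rfl⟩ ⟨_, y, rfl⟩ e
    exact Subtype.ext (congrArg Multiplicative.ofAdd (funext (h _ x.1.2 x.2 _ y.1.2 y.2 e)))
  rw [F.b_idx hT hp]
  exact ⟨Nat.mul_le_mul h (Nat.le_of_dvd (by norm_num) (F.b_ph_dvd hT hp)),
    fun k => by rw [F.b_ph_one hT k, mul_one]; exact h⟩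

theorem idx_const (F : F3 a) {T : Subgroup G} (hT : T ≤ centralizer {a}) (hp : IsPGroup 3 T)
    (h : ∀ g ∈ T, F.pm g = 1 → ∀ i j, chi (F.mt g i) = chi (F.mt g j)) :
    (Q3 a).relIndex T ≤ 9 ∧ ((∀ g ∈ T, F.pm g = 1) → (Q3 a).relIndex T ≤ 3) := by
  simpa using F.idx_of hT hp (fun s => s 0) fun g hg p g' hg' p' e i => by
    rw [h g hg p i 0, h g' hg' p' i 0]; exact e

theorem idx_sum (F : F3 a) {T : Subgroup G} (hT : T ≤ centralizer {a}) (hp : IsPGroup 3 T)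
    (h : ∀ g ∈ T, F.pm g = 1 → ∑ i, chi (F.mt g i) = 0) :
    (Q3 a).relIndex T ≤ 27 ∧ ((∀ g ∈ T, F.pm g = 1) → (Q3 a).relIndex T ≤ 9) := by
  simpa using F.idx_of hT hp (fun s => (s 0, s 1)) fun g hg p g' hg' p' e i => by
    have e1 := h g hg p
    have e2 := h g' hg' p'
    rw [Fin.sum_univ_three] at e1 e2
    obtain ⟨e3, e4⟩ := Prod.mk.inj e
    fin_cases i
    exacts [e3, e4, show chi (F.mt g 2) = chi (F.mt g' 2) by linear_combination e1 - e2 - e3 - e4]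

theorem idx_nine (F : F3 a) {σ : G} (hσ : σ * a = a * σ) (h1 : F.pm σ ≠ 1) (h3 : F.pm σ ^ 3 = 1) {T : Subgroup G}
    (hT : T ≤ centralizer {a}) (hp : IsPGroup 3 T) (hc : ∀ g ∈ T, σ * g * σ⁻¹ * g⁻¹ ∈ Q3 a) :
    (Q3 a).relIndex T ≤ 9 ∧ ((∀ g ∈ T, F.pm g = 1) → (Q3 a).relIndex T ≤ 3) :=
  F.idx_const hT hp fun g hg e => F.chi_eq hσ h1 h3 (mem_cen.1 (hT hg)) e (hc g hg)

theorem b_nine (F : F3 a) {T : Subgroup G} (hT : T ≤ centralizer {a}) (h3 : IsPGroup 3 T)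
    (hc : ∀ g ∈ T, ∀ h ∈ T, g * h * g⁻¹ * h⁻¹ ∈ Q3 a) : (∀ g ∈ T, F.pm g = 1) ∨ (Q3 a).relIndex T ≤ 9 := by
  refine or_iff_not_imp_left.2 fun h => ?_
  push Not at h
  obtain ⟨σ, hσ, h1⟩ := h
  exact (F.idx_nine (mem_cen.1 (hT hσ)) h1 (F.pm_cube_of hT h3 hσ) hT h3 (hc σ hσ)).1

theorem exists_one (F : F3 a) {T : Subgroup G} (hT : T ≤ centralizer {a}) (h3 : IsPGroup 3 T)
    (hc : ∀ g ∈ T, ∀ h ∈ T, g * h * g⁻¹ * h⁻¹ ∈ Q3 a) (h : 9 < (Q3 a).relIndex T) :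
    (∀ g ∈ T, F.pm g = 1) ∧ ∀ i, ∃ g ∈ T, F.mt g i ≠ 1 ∧ ∀ j, j ≠ i → F.mt g j = 1 := by
  have h1 := (F.b_nine hT h3 hc).resolve_right h.not_ge
  refine ⟨h1, fun i => ?_⟩
  rw [F.b_idx hT h3, F.b_ph_one hT h1, mul_one] at h
  obtain ⟨k, hk, e⟩ := (Nat.dvd_prime_pow Nat.prime_three).1 (F.b_ch_dvd hT)
  have h2 : (F.b_ch hT).range = ⊤ := eq_top_of_card_eq _ (by
    rw [e] at h ⊢
    interval_cases k <;> simp at h ⊢)
  obtain ⟨g, hg⟩ := MonoidHom.range_eq_top.1 h2 (Multiplicative.ofAdd (Pi.single i 1))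
  have h4 : ∀ j, chi (F.mt g j) = (Pi.single i 1 : Fin 3 → ZMod 3) j := congrFun (Multiplicative.ofAdd.injective hg)
  refine ⟨g, g.1.2, fun k => ?_, fun j hj => F.b_mt_one hT h3 g.1.2 g.2 (by rw [h4, Pi.single_eq_of_ne hj])⟩
  have := h4 i
  rw [k, b_chi_one, Pi.single_eq_same] at this
  exact absurd this (by decide)

/-- Commutators in a 3-group fixing the three factors. -/
theorem comm_mem (F : F3 a) {T : Subgroup G} (hT : T ≤ centralizer {a}) (h3 : IsPGroup 3 T) (h : ∀ g ∈ T, F.pm g = 1)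
    {x y : G} (hx : x ∈ T) (hy : y ∈ T) : x * y * x⁻¹ * y⁻¹ ∈ Q3 a := by
  have hc := mul_mem (mul_mem (mul_mem hx hy) (inv_mem hx)) (inv_mem hy)
  refine (F.ker _ (mem_cen.1 (hT hc))).2 ⟨h _ hc, fun i => F.b_mt_one hT h3 hc (h _ hc) ?_⟩
  have := F.chi_comm (mem_cen.1 (hT hx)) (mem_cen.1 (hT hy)) (h y hy) i
  rwa [h x hx, Equiv.Perm.one_apply, sub_self] at this

/-- The centraliser in `Q3 a` of a commuting conjugate `x`, if it is not abelian. -/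
theorem nonab (F : F3 a) {x p q : G} (F' : F3 x) (xa : x * a = a * x) (ha : a ∉ Q3 x) (hx : x ∉ Q3 a)
    (hp : p ∈ Q3 a ⊓ centralizer {x}) (hq : q ∈ Q3 a ⊓ centralizer {x}) (hpq : p * q ≠ q * p) :
    (Q3 x).relIndex (Q3 a ⊓ centralizer {x}) ≤ 27 ∧ Nat.card (Q3 x ⊓ (Q3 a ⊓ centralizer {x}) : Subgroup G) ≤ 3 ∧
      ∀ b ∈ Q3 x ⊓ (Q3 a ⊓ centralizer {x}), ∀ g ∈ Q3 a ⊓ centralizer {x}, g * b = b * g := by
  set A := Q3 a ⊓ centralizer {x} with hA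
  have hT : A ≤ centralizer {x} := inf_le_right
  have h3 : IsPGroup 3 A := F.esz.isPGroup.to_le inf_le_left
  have gx : ∀ g ∈ A, g * x = x * g := fun g hg => mem_cen.1 hg.2
  have aA : a ∈ A := ⟨F.esz.z_mem, mem_cen.2 xa.symm⟩
  have zq : ∀ z ∈ zpowers a, z ∈ Q3 x → z = 1 := fun z hz hz' => by
    by_contra h1
    exact ha (zpowers_le.2 hz' (by rw [LB.zp_eq F.esz.orderOf_z hz h1]; exact mem_zpowers a))
  have cz : ∀ g ∈ A, ∀ h ∈ A, g * h * g⁻¹ * h⁻¹ ∈ zpowers a := fun g hg h hh => F.esz.comm_mem g hg.1 h hh.1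
  have c1 : p * q * p⁻¹ * q⁻¹ ≠ 1 := fun e => hpq (by rwa [mul_inv_eq_one, mul_inv_eq_iff_eq_mul] at e)
  have cb : ∀ b ∈ Q3 x ⊓ A, ∀ g ∈ A, g * b = b * g := fun b hb g hg => by
    have := zq _ (cz g hg b hb.2) (mul_mem (b_cjQ (gx g hg) hb.1) (inv_mem hb.1))
    rwa [mul_inv_eq_one, mul_inv_eq_iff_eq_mul] at this
  obtain ⟨σ, hσ, σ1⟩ : ∃ σ ∈ A, F'.pm σ ≠ 1 := by
    by_contra! k
    exact c1 (zq _ (cz p hp q hq) (F'.comm_mem hT h3 k hp hq))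
  have σ3 := F'.pm_cube_of hT h3 hσ
  have zp : ∀ z ∈ zpowers a, F'.pm z = 1 := fun z hz => by
    have k : ∀ s t : Equiv.Perm (Fin 3), s ^ 3 = 1 → t ^ 3 = 1 → s * t * s⁻¹ * t⁻¹ = 1 := by
      set_option synthInstance.maxSize 2000 in decide
    have m : (⟨z, zpowers_le.2 aA hz⟩ : A) ∈ (F'.b_ph hT).ker := by
      have m1 : (⟨p, hp⟩ * ⟨q, hq⟩ * ⟨p, hp⟩⁻¹ * ⟨q, hq⟩⁻¹ : A) ∈ (F'.b_ph hT).ker := by
        rw [MonoidHom.mem_ker, map_mul, map_mul, map_mul, map_inv, map_inv]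
        exact k _ _ (F'.pm_cube_of hT h3 hp) (F'.pm_cube_of hT h3 hq)
      rw [← LB.zp_eq F.esz.orderOf_z (cz p hp q hq) c1] at hz
      obtain ⟨n, rfl⟩ := hz
      exact zpow_mem m1 n
    exact m
  have zc : ∀ z ∈ zpowers a, ∀ i j, chi (F'.mt z i) = chi (F'.mt z j) := fun z hz =>
    F'.chi_eq (gx σ hσ) σ1 σ3 (gx z (zpowers_le.2 aA hz)) (zp z hz) (by
      rw [(F.esz.commute_of_mem_zpowers hσ.1 hz).eq, mul_inv_cancel_right, mul_inv_cancel]; exact one_mem _)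
  refine ⟨(F'.idx_sum hT h3 fun g hg e => F'.sum_of_const (gx σ hσ) σ1 σ3 (gx g hg) e (zc _ (cz σ hσ g hg))).1, ?_, cb⟩
  have a1 := zp a (mem_zpowers a)
  have m1 : F'.mt a 0 ≠ 1 := fun e => ha ((F'.ker a xa.symm).2 ⟨a1, fun i =>
    F'.b_mt_one hT h3 aA a1 (by rw [zc a (mem_zpowers a) i 0, e, b_chi_one])⟩)
  have m3 : F'.mt a 0 * F'.mt a 0 * F'.mt a 0 = 1 := by
    rw [← F'.b_mt_mul xa.symm xa.symm a1, ← F'.b_mt_mul (b_cmul xa.symm xa.symm) xa.symm a1, ← pow_three', F.esz.z_pow,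
      F'.b_mtQ (one_mem _)]
  have k : ∀ m : LB.S3, m * m * m = 1 → m ≠ 1 → (Finset.univ.filter fun v => m.1.mulVec v = v).card ≤ 3 := by decide +kernel
  refine le_trans ?_ (k _ m3 m1)
  rw [← Fintype.card_subtype, ← Nat.card_eq_fintype_card]
  refine Nat.card_le_card_of_injective (fun b => ⟨F'.vec b 0, ?_⟩) fun b b' e => ?_
  · have := F'.act a xa.symm b b.2.1 0
    rw [a1, cb b b.2 a aA, mul_inv_cancel_right] at this
    exact this.symm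
  have hb : (b : G) * (b' : G)⁻¹ ∈ Q3 x ⊓ A := mul_mem b.2 (inv_mem b'.2)
  have e0 : F'.vec ((b : G) * (b' : G)⁻¹) 0 = 0 := by
    rw [F'.vec_mul _ b.2.1 _ (inv_mem b'.2.1), F'.vec_inv b'.2.1, Pi.add_apply, Pi.neg_apply,
      show F'.vec b 0 = F'.vec b' 0 from congrArg Subtype.val e, add_neg_cancel]
  have st : ∀ i, F'.vec ((b : G) * (b' : G)⁻¹) i = 0 → F'.vec ((b : G) * (b' : G)⁻¹) (F'.pm σ i) = 0 := fun i hi => by
    have := F'.act σ (gx σ hσ) _ hb.1 i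
    rwa [cb _ hb σ hσ, mul_inv_cancel_right, hi, Matrix.mulVec_zero] at this
  have hz : (b : G) * (b' : G)⁻¹ ∈ zpowers x := (F'.vec_eq_zero _ hb.1).1 (funext fun i => by
    rcases (by decide : ∀ π : Equiv.Perm (Fin 3), π ≠ 1 → π ^ 3 = 1 → ∀ j, j = 0 ∨ j = π 0 ∨ j = π (π 0)) _ σ1 σ3 i with
      rfl | rfl | rfl
    exacts [e0, st _ e0, st _ (st _ e0)])
  refine Subtype.ext (mul_inv_eq_one.1 (by_contra fun h1 => hx ?_))
  exact zpowers_le.2 hb.2.1 (by rw [LB.zp_eq F'.esz.orderOf_z hz h1]; exact mem_zpowers x)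

theorem card_cen_le (F : F3 a) {x : G} (F' : F3 x) (xa : x * a = a * x) (ha : a ∉ Q3 x) (hx : x ∉ Q3 a) :
    Nat.card (Q3 a ⊓ centralizer {x} : Subgroup G) ≤ 81 := by
  by_cases h : ∀ p ∈ Q3 a ⊓ centralizer {x}, ∀ q ∈ Q3 a ⊓ centralizer {x}, p * q = q * p
  · exact F.card_le_of_comm inf_le_left h
  push Not at h
  obtain ⟨p, hp, q, hq, e⟩ := h
  obtain ⟨h1, h2, -⟩ := F.nonab F' xa ha hx hp hq e
  rw [← relIndex_mul_card_inf (Q3 x)]
  exact Nat.mul_le_mul h1 h2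

/-- Renumbering of the three factors. -/
def perm (F : F3 a) (π : Equiv.Perm (Fin 3)) : F3 a where
  vec q i := F.vec q (π i)
  pm g := π⁻¹ * F.pm g * π
  mt g i := F.mt g (π i)
  R := F.R
  r i := F.r (π i)
  esz := F.esz
  card := F.card
  cube := F.cube
  cen := F.cen
  vec_mul p hp q hq := funext fun i => by rw [F.vec_mul p hp q hq]; rfl
  vec_eq_zero q hq := by
    rw [← F.vec_eq_zero q hq]
    refine ⟨fun h => funext fun i => ?_, fun h => funext fun i => congrFun h _⟩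
    simpa using congrFun h (π⁻¹ i)
  vec_surj w := by
    obtain ⟨q, hq, e⟩ := F.vec_surj fun i => w (π⁻¹ i)
    exact ⟨q, hq, funext fun i => by simp [e]⟩
  comm p hp q hq := by
    rw [F.comm p hp q hq, sf, sf]
    exact congrArg (fun z : ZMod 3 => a ^ z.val)
      (Equiv.sum_comp π fun i => F.vec p i 0 * F.vec q i 1 - F.vec p i 1 * F.vec q i 0).symm
  act g hg q hq i := by simpa using F.act g hg q hq (π i)
  pm_mul g h hg hh := by rw [F.pm_mul g h hg hh]; group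
  mt_mul g h hg hh i := by simpa using F.mt_mul g h hg hh (π i)
  ker g hg := by
    rw [F.ker g hg, ← conj_eq_one_iff (a := π⁻¹), inv_inv]
    exact and_congr_right fun _ => ⟨fun h i => h _, fun h i => by simpa using h (π⁻¹ i)⟩
  R_le := F.R_le
  cardR := F.cardR
  two g hg := by
    rw [F.two g hg, ← conj_eq_one_iff (a := π⁻¹), inv_inv]
    exact and_congr_right fun _ => ⟨fun h i => h _, fun h i => by simpa using h (π⁻¹ i)⟩
  r_mem i := F.r_mem _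
  r2 i := F.r2 _
  r_mt i j := by simp [F.r_mt]

theorem perm_pm (F : F3 a) (π : Equiv.Perm (Fin 3)) (g : G) : (F.perm π).pm g = 1 ↔ F.pm g = 1 := by
  rw [← conj_eq_one_iff (a := π⁻¹) (b := F.pm g), inv_inv]; rfl

theorem perm_P (F : F3 a) (π : Equiv.Perm (Fin 3)) (i : Fin 3) : (F.perm π).P i = F.P (π i) := by
  ext q
  refine and_congr_right fun _ => ⟨fun h j hj => ?_, fun h j hj => h _ fun e => hj (π.injective e)⟩
  have := h (π⁻¹ j) fun e => hj (by simp [← e])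
  simpa [perm] using this

end F3

namespace FJ

variable {a : G}

theorem J_perm (s : FJ a) (π : Equiv.Perm (Fin 3)) : clos [a, s.c, s.u (π 0), s.u (π 1), s.u (π 2)] = s.J := by
  have k : ∀ (f : Fin 3 → G) (π : Equiv.Perm (Fin 3)), clos [a, s.c, f (π 0), f (π 1), f (π 2)] ≤ clos [a, s.c, f 0, f 1, f 2] :=
    fun f π => by
      have m : ∀ i, f i ∈ clos [a, s.c, f 0, f 1, f 2] := fun i => mem_clos (by fin_cases i <;> simp)
      refine clos_le.2 ?_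
      simp only [List.mem_cons, List.not_mem_nil, or_false, forall_eq_or_imp, forall_eq]
      exact ⟨mem_clos (by simp), mem_clos (by simp), m _, m _, m _⟩
  refine le_antisymm (k s.u π) ?_
  simpa using k (fun i => s.u (π i)) π⁻¹

/-- Renumbering of the three factors. -/
def perm (s : FJ a) (π : Equiv.Perm (Fin 3)) : FJ a where
  toF3 := s.toF3.perm π
  c := s.c
  t := s.t
  u i := s.u (π i)
  v i := s.v (π i)
  hf := s.hf
  ca := s.ca
  c3 := s.c3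
  cpm := (s.toF3.perm_pm π _).2 s.cpm
  cmt i := s.cmt _
  cr i := s.cr _
  uP i := by rw [F3.perm_P]; exact s.uP _
  vP i := by rw [F3.perm_P]; exact s.vP _
  uvec i := s.uvec _
  vvec i := s.vvec _
  ru i := s.ru _
  rv i := s.rv _
  cu i := s.cu _
  vu i := s.vu _
  vc i := s.vc _
  t2 := s.t2
  tJ := by rw [s.J_perm π]; exact s.tJ
  ta := s.ta
  ze := by rw [s.J_perm π]; exact s.ze
  wc y hy hz i := s.wc y hy hz _
  sum0 g hg e := (Equiv.sum_comp π fun i => chi (s.mt g i)).trans (s.sum0 g hg ((s.toF3.perm_pm π _).1 e))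
  noT2 y hz hy e hq i := s.noT2 y hz hy ((s.toF3.perm_pm π _).1 e) hq _
  eq1 y hy hz hn i := by rw [F3.perm_P]; exact s.eq1 y hy hz hn _

end FJ

end Cfsg.Agent.E3
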