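import Mathlib
import Cfsg.Agent.E3.Bas2
import Cfsg.Agent.T3.FA1

/-! Commuting pairs of conjugates of `⟨a⟩` when `⟨a⟩` is weakly closed in `Q3 a`: elements fixing the three factors. -/

set_option autoImplicit false
set_option linter.unusedSectionVars false

namespace Cfsg.Agent.E3.FA

open Cfsg.Agent.Spor Cfsg.Agent.Rec Cfsg.Agent.Inv.Fz Cfsg.Agent.GT.PG Cfsg.Agent.T3.LB Subgroup
open Cfsg.Agent.T3 hiding F3 HF FJ
open Cfsg.Agent.T3.FA (kap kap_mul ncard_kap orb_le orb_all)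

universe u

variable {G : Type u} [Group G] [Finite G] {a x y q : G}

section F

variable (F : F3 a)
include F

theorem qa (hq : q ∈ Q3 a) : q * a = a * q := F.esz.zpowers_le_centralizer (mem_zpowers a) q hq

theorem aQ : a ∈ Q3 a := F.esz.z_mem

theorem pmQ (hq : q ∈ Q3 a) : F.pm q = 1 := ((F.ker q (qa F hq)).1 hq).1

theorem mtQ (hq : q ∈ Q3 a) (i : Fin 3) : F.mt q i = 1 := ((F.ker q (qa F hq)).1 hq).2 i

theorem vec_z {z : G} (hz : z ∈ zpowers a) : F.vec z = 0 := (F.vec_eq_zero z (F.esz.zpowers_le hz)).2 hz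

theorem cjQ (hx : x * a = a * x) (hq : q ∈ Q3 a) : x * q * x⁻¹ ∈ Q3 a := conj_mem_of_mem_norm (norm_Q3 hx) hq

theorem kap_mem (hx : x * a = a * x) (hq : q ∈ Q3 a) : kap x q ∈ Q3 a := by
  rw [kap, mul_assoc, mul_assoc, ← mul_assoc x]
  exact mul_mem hq (cjQ F hx (inv_mem hq))

theorem vec_kap (hx : x * a = a * x) (hq : q ∈ Q3 a) : F.vec (kap x q) = F.vec q - F.vec (x * q * x⁻¹) := by
  rw [show kap x q = q * (x * q * x⁻¹)⁻¹ by rw [kap]; group, F.vec_mul _ hq _ (inv_mem (cjQ F hx hq)),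
    F.vec_inv (cjQ F hx hq), sub_eq_add_neg]

theorem pm_cube (hx : x * a = a * x) (h3 : x ^ 3 = 1) : F.pm x ^ 3 = 1 := by
  have h := pmQ F (one_mem _)
  have c : Commute x a := hx
  rwa [← h3, pow_three', F.pm_mul _ _ (c.mul_left c) hx, F.pm_mul _ _ hx hx, ← pow_three'] at h

theorem mt_cube (hx : x * a = a * x) (h3 : x ^ 3 = 1) (i : Fin 3) :
    F.mt x (F.pm x (F.pm x i)) * F.mt x (F.pm x i) * F.mt x i = 1 := by
  have h := mtQ F (one_mem _) i
  have c : Commute x a := hx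
  rwa [← h3, pow_three', F.mt_mul _ _ (c.mul_left c) hx, F.mt_mul _ _ hx hx] at h

theorem mt_mul1 (hx : x * a = a * x) (hy : y * a = a * y) (h : F.pm y = 1) (i : Fin 3) :
    F.mt (x * y) i = F.mt x i * F.mt y i := by rw [F.mt_mul _ _ hx hy, h]; rfl

/-- The preimage of a subspace. -/
def pre (p : W6 → Prop) (h0 : p 0) (h1 : ∀ w w', p w → p w' → p (w + w')) : Subgroup G where
  carrier := {q | q ∈ Q3 a ∧ p (F.vec q)}
  one_mem' := ⟨one_mem _, by rwa [vec_z F (one_mem _)]⟩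
  mul_mem' := fun {p q} hp hq => ⟨mul_mem hp.1 hq.1, by rw [F.vec_mul p hp.1 q hq.1]; exact h1 _ _ hp.2 hq.2⟩
  inv_mem' := fun {q} hq => ⟨inv_mem hq.1, by
    have e : ∀ s : ZMod 3, -s = s + s := by decide
    rw [F.vec_inv hq.1, show -F.vec q = F.vec q + F.vec q from funext fun i => funext fun j => e _]
    exact h1 _ _ hq.2 hq.2⟩

theorem card_pre (p : W6 → Prop) [DecidablePred p] (h0 : p 0) (h1 : ∀ w w', p w → p w' → p (w + w')) {n : ℕ}
    (h : (Finset.univ.filter p).card = n) : Nat.card (pre F p h0 h1) = 3 * n := by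
  rw [F.card_eq (A := pre F p h0 h1) (fun _ h => h.1) ⟨aQ F, by rwa [vec_z F (mem_zpowers a)]⟩, ← h, ← Set.ncard_coe_finset]
  congr 2
  ext w
  simp only [Finset.coe_filter, Finset.mem_univ, true_and, Set.mem_ofPred_eq]
  refine ⟨fun ⟨q, hq, e⟩ => e ▸ hq.2, fun hw => ?_⟩
  obtain ⟨q, hq, rfl⟩ := F.vec_surj w
  exact ⟨q, ⟨hq, hw⟩, rfl⟩

theorem mem_of_max {A : Subgroup G} (hA : A ≤ Q3 a) (hc : ∀ x ∈ A, ∀ y ∈ A, x * y = y * x) (h : 81 ≤ Nat.card A)
    (hq : q ∈ Q3 a) (h1 : ∀ y ∈ A, q * y = y * q) : q ∈ A := by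
  by_contra hn
  have h2 := F.card_le_of_comm (A := zpowers q ⊔ A) (sup_le (zpowers_le.2 hq) hA) fun x hx y hy => by
    have k : ∀ z, q * z = z * q → (∀ y ∈ A, y * z = z * y) → ∀ x ∈ zpowers q ⊔ A, x * z = z * x := fun z e1 e2 x hx =>
      mem_cen.1 (sup_le (zpowers_le.2 (mem_cen.2 e1)) (fun y hy => mem_cen.2 (e2 y hy)) hx)
    exact k y (k q rfl (fun y hy => (h1 y hy).symm) y hy).symm
      (fun z hz => (k z (h1 z hz) (fun y hy => hc y hy z hz) y hy).symm) x hx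
  rw [card_sup_zp (orderOf_eq_prime (F.cube q hq) fun e => hn (e ▸ one_mem _)) h1 hn] at h2
  omega

theorem card_Z : Nat.card (zpowers a) = 3 := F.esz.card_zpowers

end F

/-- A commuting pair of conjugates. -/
structure Pa (a x : G) : Prop where
  hf : HF a
  wc : Wc a
  ze : ZE a x
  cm : x * a = a * x
  nz : x ∉ zpowers a

namespace Pa

variable (h : Pa a x)
include h

theorem ord : orderOf x = 3 := (h.hf x h.ze).some.esz.orderOf_z

theorem x3 : x ^ 3 = 1 := h.ord ▸ pow_orderOf_eq_one x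

theorem symm : Pa x a := by
  refine ⟨fun y hy => h.hf y (ze_trans h.ze hy), ?_, ze_symm h.ze, h.cm.symm, fun hz => h.nz ?_⟩
  · rcases h.ze with e | e <;> obtain ⟨g, rfl⟩ := isConj_iff.1 e
    exacts [wc_cj h.wc g, wc_cj (wc_inv h.wc) g]
  · rw [zp_eq h.ord hz (h.hf a (ze_refl a)).some.esz.z_ne_one]
    exact mem_zpowers x

theorem nQ : x ∉ Q3 a := fun hq => h.nz (h.wc x hq h.ze)

theorem eq_one (hy : y ∈ zpowers x) (hq : y ∈ Q3 a) : y = 1 := by
  by_contra h1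
  exact h.nQ (zpowers_le.2 hq (by rw [zp_eq h.ord hy h1]; exact mem_zpowers x))

theorem kill (hy : y ∈ Q3 a) (hy' : y ∈ Q3 x) (hz : ZE a (y * x)) : y = 1 :=
  h.eq_one ((mul_mem_cancel_right (mem_zpowers x)).1
    (h.symm.wc _ (mul_mem hy' (aQ (h.hf x h.ze).some)) (ze_trans (ze_symm h.ze) hz))) hy

theorem next (hy : y ∈ Q3 a) (y1 : y ≠ 1) (hc : y * x = x * y) (hz : ZE a (y * x)) : Pa x (y * x) :=
  ⟨h.symm.hf, h.symm.wc, ze_trans (ze_symm h.ze) hz, by rw [← mul_assoc, ← hc], fun e =>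
    y1 (h.eq_one ((mul_mem_cancel_right (mem_zpowers x)).1 e) hy)⟩

theorem le81 : Nat.card (Q3 a ⊓ centralizer {x} : Subgroup G) ≤ 81 :=
  (h.hf a (ze_refl a)).some.card_cen_le (h.hf x h.ze).some h.cm h.symm.nQ h.nQ

theorem T1 (F : F3 a) (h1 : F.pm x = 1) (i : Fin 3) (h2 : ∀ j, j ≠ i → F.mt x j = 1) : False := by
  have c : ∀ (i : Fin 3) (m : S3), m * m * m = 1 →
      243 ≤ (Finset.univ.filter fun w : W6 => w i = m.1.mulVec (w i)).card := by decide +kernel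
  let C := pre F (fun w => w i = (F.mt x i).1.mulVec (w i)) (by simp) fun w w' e e' => by
    rw [Pi.add_apply, Matrix.mulVec_add, ← e, ← e']
  have h3 := orb_le (C := C) (S := zpowers a) (x := x) fun q hq => by
    rw [← F.vec_eq_zero _ (kap_mem F h.cm hq.1), vec_kap F h.cm hq.1, sub_eq_zero]
    funext j
    have := F.act x h.cm q hq.1 j
    rw [h1, Equiv.Perm.one_apply] at this
    rw [this]
    by_cases e : j = i
    · rw [e]; exact hq.2
    · rw [h2 j e, Matrix.SpecialLinearGroup.coe_one, Matrix.one_mulVec]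
  rw [card_pre F _ _ _ rfl, card_Z F] at h3
  have h4 := c i (F.mt x i) (by simpa only [h1, Equiv.Perm.one_apply] using mt_cube F h.cm h.x3 i)
  have h5 := (card_le_of_le (inf_le_inf_right (centralizer {x}) (show C ≤ Q3 a from fun _ h => h.1))).trans h.le81
  omega

theorem no27 {D : Subgroup G} (h1 : D ≤ Q3 a ⊓ centralizer {x}) (h2 : 27 ≤ Nat.card D) (h3 : ∀ d ∈ D, ZE a (d * x))
    (hc : ∀ p ∈ D, ∀ q ∈ D, p * q = q * p) :
    False := by
  obtain ⟨F⟩ := h.hf a (ze_refl a)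
  obtain ⟨F'⟩ := h.hf x h.ze
  have h4 := relIndex_mul_card_inf (Q3 x) D
  rw [show Q3 x ⊓ D = ⊥ from eq_bot_iff.2 fun d hd => h.kill (h1 hd.2).1 hd.1 (h3 d hd.2), card_bot] at h4
  obtain ⟨h5, h6⟩ := F'.exists_one (h1.trans inf_le_right) (F.esz.isPGroup.to_le (h1.trans inf_le_left))
    (fun p hp q hq => by rw [hc p hp q hq, mul_inv_cancel_right, mul_inv_cancel]; exact one_mem _) (by omega)
  obtain ⟨d, hd, d1, d2⟩ := h6 0
  have dx := mem_cen.1 (h1 hd).2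
  refine (h.next (h1 hd).1 (fun e => d1 (e ▸ mtQ F' (one_mem _) 0)) dx (h3 d hd)).T1 F' ?_ 0 fun j hj => ?_
  · rw [F'.pm_mul _ _ dx rfl, h5 d hd, pmQ F' (aQ F'), one_mul]
  · rw [mt_mul1 F' dx rfl (pmQ F' (aQ F')), d2 j hj, mtQ F' (aQ F'), one_mul]

theorem ze_kap (q : G) : ZE a (kap x q * x) := kap_mul x q ▸ ze_cj h.ze q

end Pa

/-- The normal form of an element fixing the three factors. -/
structure Nf (F : F3 a) (x : G) (k : Fin 3 → ZMod 3) : Prop where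
  cm : x * a = a * x
  pm : F.pm x = 1
  mt : ∀ i, F.mt x i = tv (k i)

theorem exists_nf (F : F3 a) (hx : x * a = a * x) (h3 : x ^ 3 = 1) (h1 : F.pm x = 1) :
    ∃ (F' : F3 a) (k : Fin 3 → ZMod 3), Nf F' x k ∧ ∀ i, chi (F.mt x i) = k i := by
  have c : ∀ m : S3, m * m * m = 1 → ∃ r : S3, r * m * r⁻¹ = tv (chi m) := by decide +kernel
  have h4 : ∀ i, ∃ r : S3, r * F.mt x i * r⁻¹ = tv (chi (F.mt x i)) := fun i => c _ (by
    simpa only [h1, Equiv.Perm.one_apply] using mt_cube F hx h3 i)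
  choose b hb using h4
  obtain ⟨F', -, e1, e2, -⟩ := F.exists_rebase b
  exact ⟨F', _, ⟨hx, by rw [e1, h1], fun i => by rw [e2, h1]; exact hb i⟩, fun _ => rfl⟩

theorem Nf.vec {F : F3 a} {k : Fin 3 → ZMod 3} (n : Nf F x k) (hq : q ∈ Q3 a) :
    F.vec (kap x q) = fun i => ![-(k i * F.vec q i 1), 0] := by
  have c : ∀ (k : ZMod 3) (w : Fin 2 → ZMod 3), w - (tv k).1.mulVec w = ![-(k * w 1), 0] := by decide +kernel
  funext i
  have := F.act x n.cm q hq i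
  rw [n.pm, Equiv.Perm.one_apply, n.mt] at this
  rw [vec_kap F n.cm hq, Pi.sub_apply, this, c]

namespace Pa

variable (h : Pa a x) {F : F3 a} {k : Fin 3 → ZMod 3} (n : Nf F x k)
include h n

theorem T2 (i : Fin 3) (h0 : k i = 0) : False := by
  have c1 : ∀ i : Fin 3, (Finset.univ.filter fun w : W6 => ∀ j, j ≠ i → w j 1 = 0).card = 81 := by decide +kernel
  have c2 : ∀ i : Fin 3, (Finset.univ.filter fun w : W6 => w i 0 = 0 ∧ ∀ j, w j 1 = 0).card = 9 := by decide +kernel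
  let C := pre F (fun w => ∀ j, j ≠ i → w j 1 = 0) (fun _ _ => rfl) fun w w' e e' j hj => by
    rw [Pi.add_apply, Pi.add_apply, e j hj, e' j hj, add_zero]
  let D := pre F (fun w => w i 0 = 0 ∧ ∀ j, w j 1 = 0) ⟨rfl, fun _ => rfl⟩ fun w w' e e' =>
    ⟨by rw [Pi.add_apply, Pi.add_apply, e.1, e'.1, add_zero],
      fun j => by rw [Pi.add_apply, Pi.add_apply, e.2 j, e'.2 j, add_zero]⟩
  have h3 := orb_le (C := C) (S := zpowers a) (x := x) fun q hq => by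
    rw [← F.vec_eq_zero _ (kap_mem F h.cm hq.1), n.vec hq.1]
    funext j
    by_cases e : j = i
    · rw [e, h0]; simp
    · rw [hq.2 j e]; simp
  rw [card_pre F _ _ _ (c1 i), card_Z F] at h3
  have h5 := h.le81
  have h6 : Nat.card D = 27 := card_pre F _ _ _ (c2 i)
  have h7 : ∀ d ∈ D, ZE a (d * x) := fun d hd => by
    obtain ⟨q, -, rfl⟩ := orb_all (C := Q3 a) (S := D) (x := x) (fun q hq => ⟨kap_mem F h.cm hq, by
      rw [n.vec hq]; simp [h0]⟩) (by rw [h6, F.card]; omega) hd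
    exact h.ze_kap q
  have hD : ∀ d ∈ D, ∀ y ∈ C, d * y = y * d := fun d hd y hy => by
    rw [F.commute_iff hd.1 hy.1, sf]
    refine Finset.sum_eq_zero fun j _ => ?_
    by_cases e : j = i
    · rw [e, hd.2.1, hd.2.2]; simp
    · rw [hy.2 j e, hd.2.2]; simp
  have h8 : C ⊓ centralizer {x} = Q3 a ⊓ centralizer {x} :=
    eq_of_le_of_card_ge (inf_le_inf_right _ fun _ h => h.1) (by omega)
  by_cases ab : ∀ p ∈ Q3 a ⊓ centralizer {x}, ∀ q ∈ Q3 a ⊓ centralizer {x}, p * q = q * p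
  · exact h.no27 (D := D) (fun d hd => mem_of_max F inf_le_left ab (by rw [← h8]; omega) hd.1 fun y hy => hD d hd y (h8.ge hy).1)
      h6.ge h7 fun p hp q hq => hD p hp q ⟨hq.1, fun j _ => hq.2.2 j⟩
  push Not at ab
  obtain ⟨p, hp, q, hq, e⟩ := ab
  obtain ⟨k1, -, k2⟩ := F.nonab (h.hf x h.ze).some h.cm h.symm.nQ h.nQ hp hq e
  have k3 := relIndex_mul_card_inf (Q3 x) (Q3 a ⊓ centralizer {x})
  refine absurd (show Q3 x ⊓ (Q3 a ⊓ centralizer {x}) = ⊥ from eq_bot_iff.2 fun b hb => h.kill hb.2.1 hb.1 (h7 b ?_))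
    fun e => by rw [e, card_bot, ← h8] at k3; rw [← h8] at k1; omega
  have s1 : ∀ p ∈ C, ∀ q ∈ C, sf (F.vec p) (F.vec q) = F.vec p i 0 * F.vec q i 1 - F.vec p i 1 * F.vec q i 0 :=
    fun p hp q hq => Finset.sum_eq_single i (fun j _ hj => by rw [hp.2 j hj, hq.2 j hj]; simp) (by simp)
  have bC := (h8.ge hb.2).1
  have e1 := (F.commute_iff hp.1 hb.2.1).1 (k2 b hb p hp)
  have e2 := (F.commute_iff hq.1 hb.2.1).1 (k2 b hb q hq)
  rw [Ne, F.commute_iff hp.1 hq.1, s1 p (h8.ge hp).1 q (h8.ge hq).1] at e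
  rw [s1 p (h8.ge hp).1 b bC] at e1
  rw [s1 q (h8.ge hq).1 b bC] at e2
  have k4 : ∀ p0 p1 q0 q1 b0 b1 : ZMod 3, ¬ p0 * q1 - p1 * q0 = 0 → p0 * b1 - p1 * b0 = 0 → q0 * b1 - q1 * b0 = 0 →
      b0 = 0 ∧ b1 = 0 := by decide +kernel
  obtain ⟨e3, e4⟩ := k4 _ _ _ _ _ _ e e1 e2
  refine ⟨hb.2.1, e3, fun j => ?_⟩
  by_cases hj : j = i
  · rwa [hj]
  · exact bC.2 j hj

theorem T3' : 81 ≤ Nat.card (Q3 a ⊓ centralizer {x} : Subgroup G) ∧
    (∀ q ∈ Q3 a, (∀ i, F.vec q i 1 = 0) → q * x = x * q) ∧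
    ∀ p ∈ Q3 a ⊓ centralizer {x}, ∀ q ∈ Q3 a ⊓ centralizer {x}, p * q = q * p := by
  have c1 : (Finset.univ.filter fun w : W6 => ∀ j, w j 1 = 0).card = 27 := by decide +kernel
  let D := pre F (fun w => ∀ j, w j 1 = 0) (fun _ => rfl) fun w w' e e' j => by
    rw [Pi.add_apply, Pi.add_apply, e j, e' j, add_zero]
  have h1 : Nat.card D = 81 := card_pre F _ _ _ c1
  have h2 : Q3 a ⊓ centralizer {x} ≤ D := fun q hq => ⟨hq.1, fun j => by
    have e := congrFun (congrFun (n.vec hq.1) j) 0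
    rw [show kap x q = 1 by rw [kap, mem_cen.1 hq.2]; group, vec_z F (one_mem _)] at e
    have c : ∀ s t : ZMod 3, s ≠ 0 → 0 = -(s * t) → t = 0 := by decide
    exact c _ _ (h.T2 n j) e⟩
  have ab : ∀ p ∈ Q3 a ⊓ centralizer {x}, ∀ q ∈ Q3 a ⊓ centralizer {x}, p * q = q * p := fun p hp q hq => by
    rw [F.commute_iff hp.1 hq.1, sf]
    exact Finset.sum_eq_zero fun j _ => by rw [(h2 hp).2, (h2 hq).2]; simp
  have h3 := orb_le (C := D) (S := zpowers a) (x := x) fun q hq => by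
    rw [← F.vec_eq_zero _ (kap_mem F h.cm hq.1), n.vec hq.1]
    funext j
    rw [hq.2 j]; simp
  have h4 := card_le_of_le (inf_le_inf_right (centralizer {x}) (show D ≤ Q3 a from fun _ h => h.1))
  rw [h1, card_Z F] at h3
  have h5 : 27 < Nat.card (Q3 a ⊓ centralizer {x} : Subgroup G) := not_le.1 fun h5 =>
    h.no27 le_rfl (by omega) (fun d hd => by
      obtain ⟨q, -, rfl⟩ := orb_all (C := Q3 a) (S := D) (x := x) (fun q hq => ⟨kap_mem F h.cm hq, by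
        rw [n.vec hq]; simp⟩) (by rw [h1, F.card]; omega) (h2 hd)
      exact h.ze_kap q) ab
  have h6 := card_dvd_of_le h2
  have h7 : 81 ≤ Nat.card (Q3 a ⊓ centralizer {x} : Subgroup G) := by
    rw [h1] at h6
    obtain ⟨j, hj, e⟩ := (Nat.dvd_prime_pow Nat.prime_three (m := 4)).1 h6
    rw [e] at h5 ⊢
    interval_cases j <;> omega
  exact ⟨h7, fun q hq e => mem_cen.1 ((eq_of_le_of_card_ge h2 (h1 ▸ h7)).ge ⟨hq, e⟩).2, ab⟩

end Pa

theorem Pa.fix (h : Pa a x) (F : F3 a) (h1 : F.pm x = 1) :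
    81 ≤ Nat.card (Q3 a ⊓ centralizer {x} : Subgroup G) ∧ (∀ i, chi (F.mt x i) ≠ 0) ∧
    ∀ p ∈ Q3 a ⊓ centralizer {x}, ∀ q ∈ Q3 a ⊓ centralizer {x}, p * q = q * p := by
  obtain ⟨F', k, n, e⟩ := exists_nf F h.cm h.x3 h1
  exact ⟨(h.T3' n).1, fun i => e i ▸ h.T2 n i, (h.T3' n).2.2⟩

end Cfsg.Agent.E3.FA
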