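import Mathlib
import Cfsg.Agent.E3.Bas2
import Cfsg.Agent.T3.FB

/-!
A conjugate `y` of `a` in `Q3 a`: symmetry, weak closure in two factors and normalised coordinates.
-/

set_option autoImplicit false
set_option linter.unusedSectionVars false

namespace Cfsg.Agent.E3.FB

open Cfsg.Agent.Spor Cfsg.Agent.Rec Cfsg.Agent.Inv.Fz Cfsg.Agent.GT.PG Subgroup Cfsg.Agent.T3.LB
open Cfsg.Agent.T3 hiding F3 HF FJ
open Cfsg.Agent.T3.FB (tv_vec one_vec neg_vec eq_tv exists_b s_inv p_inv p_rot p_det rot_ne rot_cube tv_one_ne neg_ne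
  w6_ext sf_eq relIndex_le card_inf_mul qa cjQ ci cm p3 z_one InE ncard_InE z_rot z_pm)

universe u

variable {G : Type u} [Group G] [Finite G] {a y : G}

section basic

variable (F : F3 a)

include F in
theorem ord : orderOf a = 3 := F.esz.orderOf_z
include F in
theorem aQ : a ∈ Q3 a := F.esz.z_mem
include F in
theorem zQ {z : G} (hz : z ∈ zpowers a) : z ∈ Q3 a := F.esz.zpowers_le hz
theorem pmQ {q : G} (hq : q ∈ Q3 a) : F.pm q = 1 := ((F.ker q (qa hq)).1 hq).1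
theorem mtQ {q : G} (hq : q ∈ Q3 a) (i : Fin 3) : F.mt q i = 1 := ((F.ker q (qa hq)).1 hq).2 i
theorem vec_z {z : G} (hz : z ∈ zpowers a) : F.vec z = 0 := (F.vec_eq_zero z (zQ F hz)).2 hz
theorem ra (i : Fin 3) : F.r i * a = a * F.r i := mem_centralizer_singleton_iff.1 (F.R_le (F.r_mem i))
theorem rpm (i : Fin 3) : F.pm (F.r i) = 1 := (F.pm_R (F.r_mem i)).1
theorem rmt (i j : Fin 3) : F.mt (F.r i) j = 1 ∨ F.mt (F.r i) j = -1 := by
  rw [F.r_mt]; split_ifs <;> simp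

theorem act1 {g q : G} (hg : g * a = a * g) (h : F.pm g = 1) (hq : q ∈ Q3 a) (i : Fin 3) :
    F.vec (g * q * g⁻¹) i = (F.mt g i).1.mulVec (F.vec q i) := by
  simpa [h] using F.act g hg q hq i
theorem mt_mul1 {g h : G} (hg : g * a = a * g) (hh : h * a = a * h) (e : F.pm h = 1) (i : Fin 3) :
    F.mt (g * h) i = F.mt g i * F.mt h i := by
  simpa [e] using F.mt_mul g h hg hh i
theorem mt_inv1 {g : G} (hg : g * a = a * g) (e : F.pm g = 1) (i : Fin 3) :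
    F.mt g⁻¹ i = (F.mt g i)⁻¹ := by
  simpa [e] using F.mt_inv hg i
theorem pm_inv1 {g : G} (hg : g * a = a * g) (e : F.pm g = 1) : F.pm g⁻¹ = 1 := by
  rw [F.pm_inv hg, e, inv_one]
theorem pm_cube {g : G} (hg : g * a = a * g) (h : g ^ 3 = 1) : F.pm g ^ 3 = 1 := by
  rw [pow_three', ← F.pm_mul g g hg hg, ← F.pm_mul _ g (cm hg hg) hg, ← pow_three', h, pmQ F (one_mem _)]
theorem mt_cube {g : G} (hg : g * a = a * g) (e : F.pm g = 1) (h : g ^ 3 = 1) (i : Fin 3) :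
    F.mt g i ^ 3 = 1 := by
  rw [pow_three', ← mt_mul1 F hg hg e, ← mt_mul1 F (cm hg hg) hg e, ← pow_three', h, mtQ F (one_mem _)]
theorem vec_div {p q : G} (hp : p ∈ Q3 a) (hq : q ∈ Q3 a) : F.vec (p * q⁻¹) = F.vec p - F.vec q := by
  rw [F.vec_mul p hp _ (inv_mem hq), F.vec_inv hq, sub_eq_add_neg]

/-- The commutator with an element acting by transvections. -/
theorem vec_tv {g q : G} (hg : g * a = a * g) (h : F.pm g = 1) (hq : q ∈ Q3 a) {i : Fin 3} {k : ZMod 3}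
    (e : F.mt g i = tv k) :
    F.vec (g * q * g⁻¹ * q⁻¹) i 0 = k * F.vec q i 1 ∧ F.vec (g * q * g⁻¹ * q⁻¹) i 1 = 0 := by
  rw [vec_div F (cjQ hg hq) hq]
  simp only [Pi.sub_apply, act1 F hg h hq, e, tv_vec]
  simp

theorem mem_of_inv {t b : G} (ht : t * a = a * t) (h1 : F.pm t = 1)
    (h2 : ∀ i, F.mt t i = 1 ∨ F.mt t i = -1) (hb : b * a = a * b) (b3 : b ^ 3 = 1)
    (e : t * b * t⁻¹ = b⁻¹) : b ∈ Q3 a := by
  have hp : F.pm b = 1 := by
    refine p_inv _ (pm_cube F hb b3) ?_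
    rw [← F.pm_inv hb, ← e, F.pm_mul _ _ (cm ht hb) (ci ht), F.pm_mul _ _ ht hb, pm_inv1 F ht h1, h1,
      one_mul, mul_one]
  refine (F.ker b hb).2 ⟨hp, fun i => s_inv _ _ (h2 i) (mt_cube F hb hp b3 i) ?_⟩
  rw [← mt_inv1 F hb hp, ← e, mt_mul1 F (cm ht hb) (ci ht) (pm_inv1 F ht h1), mt_mul1 F ht hb hp,
    mt_inv1 F ht h1]

theorem mem_of_vec {K : Subgroup G} (ha : a ∈ K) {q p : G} (hq : q ∈ Q3 a) (hp : p ∈ Q3 a) (hK : p ∈ K)
    (h : F.vec q = F.vec p) : q ∈ K := by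
  simpa using mul_mem (zpowers_le.2 ha ((F.vec_eq hq hp).1 h)) hK

theorem mem_of_vec3 {K : Subgroup G} (ha : a ∈ K) {q p1 p2 p3 : G} (hq : q ∈ Q3 a) (h1 : p1 ∈ Q3 a)
    (h2 : p2 ∈ Q3 a) (h3 : p3 ∈ Q3 a) (k1 : p1 ∈ K) (k2 : p2 ∈ K) (k3 : p3 ∈ K) (i j k : ZMod 3)
    (h : F.vec q = i • F.vec p1 + j • F.vec p2 + k • F.vec p3) : q ∈ K := by
  have e1 := pow_mem h1 i.val
  have e2 := pow_mem h2 j.val
  have e3 := pow_mem h3 k.val
  refine mem_of_vec F ha hq (mul_mem (mul_mem e1 e2) e3)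
    (mul_mem (mul_mem (pow_mem k1 _) (pow_mem k2 _)) (pow_mem k3 _)) ?_
  rw [F.vec_mul _ (mul_mem e1 e2) _ e3, F.vec_mul _ e1 _ e2, F.vec_pow h1, F.vec_pow h2, F.vec_pow h3, h]

theorem vec_zp {y z : G} (hy : y ∈ Q3 a) (y3 : orderOf y = 3) (hz : z ∈ zpowers y) :
    ∃ k : ZMod 3, F.vec z = k • F.vec y := by
  obtain ⟨k, rfl⟩ := exists_val y3 hz
  exact ⟨k, F.vec_pow hy k⟩

include F in
theorem comm_z {p q : G} (hp : p ∈ Q3 a) (hq : q ∈ Q3 a) : p * q * p⁻¹ * q⁻¹ ∈ zpowers a :=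
  F.esz.comm_mem p hp q hq

end basic

/-- `y` generates a conjugate of `⟨a⟩` in `Q3 a` different from `⟨a⟩`. -/
structure Pq (a y : G) : Prop where
  hf : HF a
  mem : y ∈ Q3 a
  ze : ZE a y
  nz : y ∉ zpowers a

namespace Pq

variable (h : Pq a y)
include h

theorem fa : Nonempty (F3 a) := h.hf a (ze_refl a)
theorem fy : Nonempty (F3 y) := h.hf y h.ze

theorem eq_one {z : G} (h1 : z ∈ zpowers a) (h2 : z ∈ zpowers y) : z = 1 := by
  obtain ⟨F⟩ := h.fa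
  obtain ⟨F'⟩ := h.fy
  by_contra hz
  exact h.nz (zp_eq (ord F) h1 hz ▸ (zp_eq (ord F') h2 hz).symm ▸ mem_zpowers y)

theorem symm : Pq y a := by
  obtain ⟨F⟩ := h.fa
  obtain ⟨F'⟩ := h.fy
  refine ⟨fun z hz => h.hf z (ze_trans h.ze hz), ?_, ze_symm h.ze, fun ha => ?_⟩
  · by_contra hn
    set A := Q3 a ⊓ centralizer {y} with hA
    have zq : ∀ z ∈ zpowers a, z ∈ Q3 y → z = 1 := fun z hz hz' => by
      by_contra h1
      exact hn (zpowers_le.2 hz' (by rw [zp_eq (ord F) hz h1]; exact mem_zpowers a))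
    have h1 := F.card_mul_cen (A := A) inf_le_left ⟨aQ F, mem_cen.2 (qa h.mem).symm⟩
    have h2 := card_le_of_le (show Q3 y ⊓ A ⊔ zpowers a ≤ Q3 a ⊓ centralizer (A : Set G) from
      sup_le (fun b hb => ⟨hb.2.1, fun p hp => by
        have := zq _ (comm_z F hp.1 hb.2.1) (mul_mem (cjQ (mem_cen.1 hp.2) hb.1) (inv_mem hb.1))
        rwa [mul_inv_eq_one, mul_inv_eq_iff_eq_mul] at this⟩)
        (zpowers_le.2 ⟨aQ F, fun p hp => qa hp.1⟩))
    rw [GT.card_sup_of_inf_eq_bot (show Q3 y ⊓ A ≤ _ from fun b hb => mem_normalizer_of_conj_mem fun z hz => by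
      rwa [(F.esz.commute_of_mem_zpowers hb.2.1 hz).eq, mul_inv_cancel_right])
      (eq_bot_iff.2 fun b hb => zq b hb.2 hb.1.1), F.esz.card_zpowers] at h2
    have h3 := card_inf_mul (Q3 y) A
    have h4 := F'.idx_81 (T := A) inf_le_right (p3 inf_le_left)
    rw [F.card_cen h.mem h.nz] at h1 h3
    nlinarith
  · exact F.esz.z_ne_one (h.eq_one (mem_zpowers a) ha)

theorem comm {p q : G} (hp : p ∈ Q3 a) (hp' : p ∈ Q3 y) (hq : q ∈ Q3 a) (hq' : q ∈ Q3 y) :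
    p * q = q * p := by
  obtain ⟨F⟩ := h.fa
  obtain ⟨F'⟩ := h.fy
  rw [← mul_inv_eq_iff_eq_mul, ← mul_inv_eq_one]
  exact h.eq_one (comm_z F hp hq) (comm_z F' hp' hq')

theorem card_star : Nat.card (Q3 y ⊓ centralizer {a} : Subgroup G) = 3 ^ 6 := by
  obtain ⟨F'⟩ := h.fy
  exact F'.card_cen h.symm.mem h.symm.nz

theorem nine_le : 9 ≤ (Q3 a).relIndex (Q3 y ⊓ centralizer {a}) := by
  obtain ⟨F⟩ := h.fa
  have h1 := card_inf_mul (Q3 a) (Q3 y ⊓ centralizer {a})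
  have h2 := F.card_le_of_comm (A := Q3 a ⊓ (Q3 y ⊓ centralizer {a})) inf_le_left
    fun p hp q hq => h.comm hp.1 hp.2.1 hq.1 hq.2.1
  rw [h.card_star] at h1
  by_contra! h3
  nlinarith

theorem vec_ne (F : F3 a) (i : Fin 3) : F.vec y i ≠ 0 := by
  intro h0
  obtain ⟨F'⟩ := h.fy
  have hty : F.r i * y = y * F.r i := by
    obtain ⟨p, hp, e⟩ := F.dec h.mem
    have hv : F.vec y = F.vec (p 0) + F.vec (p 1) + F.vec (p 2) := by
      rw [e, F.vec_mul _ (mul_mem (hp 0).1 (hp 1).1) _ (hp 2).1, F.vec_mul _ (hp 0).1 _ (hp 1).1]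
    have hc : ∀ j, Commute (F.r i) (p j) := fun j => by
      by_cases hj : j = i
      · subst hj
        have : F.vec (p j) = 0 := funext fun k => by
          by_cases hk : k = j
          · subst hk
            have h1 := congrFun hv k
            rw [h0] at h1
            fin_cases k
            · simpa [(hp 1).2 0 (by decide), (hp 2).2 0 (by decide)] using h1.symm
            · simpa [(hp 0).2 1 (by decide), (hp 2).2 1 (by decide)] using h1.symm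
            · simpa [(hp 0).2 2 (by decide), (hp 1).2 2 (by decide)] using h1.symm
          · exact (hp j).2 k hk
        obtain ⟨n, hn⟩ := (F.vec_eq_zero _ (hp j).1).1 this
        rw [← hn]
        exact Commute.zpow_right (ra F j) n
      · exact F.r_P hj (hp j)
    rw [e]
    exact ((hc 0).mul_right (hc 1)).mul_right (hc 2)
  have hr1 : F.r i ≠ 1 := fun e => neg_ne (by simpa [e, mtQ F (one_mem _)] using (F.r_mt i i).symm)
  obtain ⟨p, hp, q, hq, hne, tp, tq⟩ := F'.exists_inv hty (F.r2 i) hr1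
  have key : ∀ w ∈ Q3 y, F.r i * w * (F.r i)⁻¹ = w⁻¹ → w ∈ Q3 a := fun w hw tw =>
    mem_of_inv F (ra F i) (rpm F i) (rmt F i) ((om_eq_zero F'.esz h.symm.mem hw).1
      (om_fix_inv F'.esz hty h.symm.mem hw (ra F i).symm tw)).symm (F'.cube w hw) tw
  exact hne (h.comm (key p hp tp) hp (key q hq tq) hq)

end Pq

theorem wc (hf : HF a) (F : F3 a) : ∀ y ∈ Q3 a, ZE a y → ∀ i, F.vec y i = 0 → y ∈ zpowers a :=
  fun y hy hz i h0 => by_contra fun hn => (⟨hf, hy, hz, hn⟩ : Pq a y).vec_ne F i h0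

theorem mt_eq_tv (F : F3 a) (hy : y ∈ Q3 a) (vy : ∀ i, F.vec y i = ![1, 0]) {g : G} (hg : g * a = a * g)
    (gy : g * y = y * g) (i : Fin 3) : F.mt g i = tv (chi (F.mt g i)) := by
  have := F.act g hg y hy i
  rw [gy, mul_inv_cancel_right, vy, vy] at this
  exact eq_tv _ this.symm

theorem Pq.exists_pm (h : Pq a y) (F0 : F3 a) : ∃ σ ∈ Q3 y, σ * a = a * σ ∧ F0.pm σ ≠ 1 := by
  by_contra! H
  obtain ⟨F'⟩ := h.fy
  choose b hb using fun i => exists_b _ (h.vec_ne F0 i)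
  obtain ⟨F, hv, hp, -⟩ := F0.exists_rebase b
  rw [← hp] at H
  have vy : ∀ i, F.vec y i = ![1, 0] := fun i => by rw [hv, hb]
  set A := Q3 y ⊓ centralizer {a} with hA
  have gA : ∀ g ∈ A, g * a = a * g := fun g hg => mem_centralizer_singleton_iff.1 hg.2
  have hc : ∀ g ∈ A, ∀ e ∈ Q3 a, e ∈ Q3 y → ∃ l : ZMod 3, F.vec (g * e * g⁻¹ * e⁻¹) = l • F.vec y ∧
      ∀ i, chi (F.mt g i) * F.vec e i 1 = l := fun g hg e he he' => by
    obtain ⟨l, hl⟩ := vec_zp F h.mem (ord F') (comm_z F' hg.1 he')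
    refine ⟨l, hl, fun i => ?_⟩
    rw [← (vec_tv F (gA g hg) (H g hg.1 (gA g hg)) he
      (mt_eq_tv F h.mem vy (gA g hg) (qa hg.1) i)).1, hl]
    simp [vy]
  have hβ : ∀ e ∈ Q3 a, e ∈ Q3 y → ∀ i, F.vec e i 1 = 0 := by
    intro e he he'
    have h1 := (F.commute_iff h.mem he).1 (qa he').symm
    simp only [sf_eq, vy, Matrix.cons_val_zero, Matrix.cons_val_one, one_mul, zero_mul, sub_zero] at h1
    by_contra hn
    obtain ⟨j, hj⟩ := z_one (fun i => F.vec e i 1) (fun e0 => hn (congrFun e0)) h1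
    have h2 := relIndex_le (Q3 a) A (fun g => chi (F.mt g j)) fun g hg g' hg' eq => by
      have hm : g⁻¹ * g' ∈ A := mul_mem (inv_mem hg) hg'
      obtain ⟨l, -, hl⟩ := hc _ hm e he he'
      have h3 : chi (F.mt (g⁻¹ * g') j) = 0 := by
        have h4 := chi_mul (F.mt g j) (F.mt (g⁻¹ * g') j)
        rw [← mt_mul1 F (gA g hg) (gA _ hm) (H _ hm.1 (gA _ hm)), mul_inv_cancel_left] at h4
        exact add_eq_left.1 (h4.symm.trans eq.symm)
      have e0 := hj (fun i => chi (F.mt (g⁻¹ * g') i)) ((hl 0).trans (hl 1).symm)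
        ((hl 1).trans (hl 2).symm) h3
      refine (F.ker _ (gA _ hm)).2 ⟨H _ hm.1 (gA _ hm), fun i => ?_⟩
      rw [mt_eq_tv F h.mem vy (gA _ hm) (qa hm.1) i, ← tv_zero]
      exact congrArg tv (congrFun e0 i)
    have : 9 ≤ (Q3 a).relIndex A := h.nine_le
    rw [Nat.card_zmod] at h2
    omega
  have h1 := F'.card_mul_cen (A := Q3 a ⊓ A) (inf_le_right.trans inf_le_left)
    ⟨h.mem, aQ F', mem_centralizer_singleton_iff.2 (qa h.mem)⟩
  have h2 : A ≤ Q3 y ⊓ centralizer ((Q3 a ⊓ A : Subgroup G) : Set G) := fun g hg =>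
    ⟨hg.1, fun e he => by
      obtain ⟨l, hl, hl'⟩ := hc g hg e he.1 he.2.1
      rw [← hl' 0, hβ e he.1 he.2.1, mul_zero, zero_smul] at hl
      have := h.eq_one ((F.vec_eq_zero _ (mul_mem (cjQ (gA g hg) he.1) (inv_mem he.1))).1 hl)
        (comm_z F' hg.1 he.2.1)
      rw [mul_inv_eq_one, mul_inv_eq_iff_eq_mul] at this
      exact this.symm⟩
  have h3 := card_le_of_le h2
  have h4 := card_inf_mul (Q3 a) A
  have h5 := F.idx_27 (T := A) inf_le_right (p3 inf_le_left) fun g hg => H g hg.1 (gA g hg)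
  rw [h.card_star] at h3 h4
  nlinarith

/-- Normalised coordinates for the pair `(a, y)`. -/
structure St (F : F3 a) (y σ x : G) : Prop where
  pq : Pq a y
  vy : ∀ i, F.vec y i = ![1, 0]
  σQ : σ ∈ Q3 y
  σa : σ * a = a * σ
  σpm : F.pm σ = finRotate 3
  σmt : ∀ i, F.mt σ i = 1
  xQ : x ∈ Q3 y
  xa : x * a = a * x
  xpm : F.pm x = 1
  xmt : ∀ i, F.mt x i = tv 1
  inE : ∀ q ∈ Q3 a, (q ∈ Q3 y ↔ InE (F.vec q))

/-- The commutator with `σ`. -/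
theorem vec_rot (F : F3 a) {σ q : G} (σa : σ * a = a * σ) (σpm : F.pm σ = finRotate 3)
    (σmt : ∀ i, F.mt σ i = 1) (hq : q ∈ Q3 a) :
    F.vec (σ * q * σ⁻¹ * q⁻¹) = ![F.vec q 2 - F.vec q 0, F.vec q 0 - F.vec q 1, F.vec q 1 - F.vec q 2] := by
  have h := fun i => F.act σ σa q hq i
  simp only [σpm, σmt, one_vec] at h
  rw [vec_div F (cjQ σa hq) hq]
  funext i
  fin_cases i
  · exact congrArg (· - F.vec q 0) (h 2)
  · exact congrArg (· - F.vec q 1) (h 0)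
  · exact congrArg (· - F.vec q 2) (h 1)

theorem Pq.exists_st (h : Pq a y) (F0 : F3 a) : ∃ (F : F3 a) (σ x : G),
    (∀ q j, F0.vec q j = 0 → F.vec q j = 0) ∧ St F y σ x := by
  obtain ⟨F'⟩ := h.fy
  obtain ⟨σ, σQ, σa, σpm⟩ : ∃ σ ∈ Q3 y, σ * a = a * σ ∧ F0.pm σ = finRotate 3 := by
    obtain ⟨σ, h1, h2, h3⟩ := h.exists_pm F0
    rcases p_rot _ (pm_cube F0 h2 (F'.cube σ h1)) h3 with e | e
    · exact ⟨σ, h1, h2, e⟩
    · exact ⟨σ⁻¹, inv_mem h1, ci h2, by rw [F0.pm_inv h2, e]⟩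
  obtain ⟨b0, hb0⟩ := exists_b _ (h.vec_ne F0 0)
  obtain ⟨F, hv, hp, hm, -, -⟩ := F0.exists_rebase
    ![b0, b0 * (F0.mt σ 0)⁻¹, b0 * (F0.mt σ 0)⁻¹ * (F0.mt σ 1)⁻¹]
  have σmt : ∀ i, F.mt σ i = 1 := by
    have h3 : F0.mt σ 2 * (F0.mt σ 1 * F0.mt σ 0) = 1 := by
      have e1 := F0.mt_mul σ (σ * σ) σa (cm σa σa) 0
      rw [F0.mt_mul σ σ σa σa, F0.pm_mul σ σ σa σa, σpm, ← pow_three, F'.cube σ σQ,
        mtQ F0 (one_mem _)] at e1
      exact e1.symm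
    intro i
    rw [hm, σpm]
    fin_cases i
    · show b0 * (F0.mt σ 0)⁻¹ * F0.mt σ 0 * b0⁻¹ = 1
      group
    · show b0 * (F0.mt σ 0)⁻¹ * (F0.mt σ 1)⁻¹ * F0.mt σ 1 * (b0 * (F0.mt σ 0)⁻¹)⁻¹ = 1
      group
    · show b0 * F0.mt σ 2 * (b0 * (F0.mt σ 0)⁻¹ * (F0.mt σ 1)⁻¹)⁻¹ = 1
      rw [eq_inv_of_mul_eq_one_left h3]; group
  rw [← hp] at σpm
  have vy : ∀ i, F.vec y i = ![1, 0] := by
    have h0 : F.vec y 0 = ![1, 0] := by rw [hv]; exact hb0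
    have h1 := fun i => F.act σ σa y h.mem i
    simp only [σpm, σmt, one_vec, qa σQ, mul_inv_cancel_right] at h1
    have h2 : F.vec y 1 = F.vec y 0 := h1 0
    have h3 : F.vec y 2 = F.vec y 1 := h1 1
    intro i
    fin_cases i
    exacts [h0, h2.trans h0, h3.trans (h2.trans h0)]
  have hr : ∀ q j, F0.vec q j = 0 → F.vec q j = 0 := fun q j e => by rw [hv, e, Matrix.mulVec_zero]
  clear hv hm hp hb0
  set A := Q3 y ⊓ centralizer {a} with hA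
  have gA : ∀ g ∈ A, g * a = a * g := fun g hg => mem_centralizer_singleton_iff.1 hg.2
  have σ1 : F.pm σ ≠ 1 := σpm ▸ rot_ne
  have σ3 : F.pm σ ^ 3 = 1 := σpm ▸ rot_cube
  have h9 : 9 ≤ (Q3 a).relIndex A := h.nine_le
  obtain ⟨x, xQ, xa, xpm, xmt⟩ : ∃ x ∈ Q3 y, x * a = a * x ∧ F.pm x = 1 ∧ ∀ i, F.mt x i = tv 1 := by
    obtain ⟨x, hx, xpm, xn⟩ : ∃ x ∈ A, F.pm x = 1 ∧ x ∉ Q3 a := by
      by_contra! H
      have := relIndex_le (Q3 a) A (fun g => F.pm g 0) fun g hg g' hg' e =>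
        H _ (mul_mem (inv_mem hg) hg') (by
          rw [F.pm_mul _ _ (ci (gA g hg)) (gA g' hg'), F.pm_inv (gA g hg)]
          exact p_det _ _ (pm_cube F (gA g hg) (F'.cube g hg.1)) (pm_cube F (gA g' hg') (F'.cube g' hg'.1)) e)
      rw [Nat.card_fin] at this
      omega
    have hk : ∀ i, F.mt x i = tv (chi (F.mt x 0)) := fun i => by
      rw [mt_eq_tv F h.mem vy (gA x hx) (qa hx.1) i, F.chi_eq σa σ1 σ3 (gA x hx) xpm (zpowers_le.2 h.mem (comm_z F' σQ hx.1)) i 0]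
    rcases z_pm (chi (F.mt x 0)) (fun e => xn ((F.ker x (gA x hx)).2 ⟨xpm, fun i => by
      rw [hk, e, tv_zero]⟩)) with e | e
    · exact ⟨x, hx.1, gA x hx, xpm, fun i => by rw [hk, e]⟩
    · exact ⟨x⁻¹, inv_mem hx.1, ci (gA x hx), pm_inv1 F (gA x hx) xpm, fun i => by
        rw [mt_inv1 F (gA x hx) xpm, hk, tv_inv, e]⟩
  have hE : ∀ q ∈ Q3 a, q ∈ Q3 y → InE (F.vec q) := fun q hq hq' => by
    obtain ⟨l, hl⟩ := vec_zp F h.mem (ord F') (comm_z F' xQ hq')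
    obtain ⟨m, hm⟩ := vec_zp F h.mem (ord F') (comm_z F' σQ hq')
    have h1 : ∀ i, F.vec q i 1 = l := fun i => by
      simpa [hl, vy] using (vec_tv F xa xpm hq (xmt i)).1.symm
    rw [vec_rot F σa σpm σmt hq] at hm
    have h2 := congrFun (congrFun hm 0) 0
    have h3 := congrFun (congrFun hm 1) 0
    simp only [Pi.smul_apply, vy, Matrix.cons_val_zero, Matrix.cons_val_one, smul_eq_mul, mul_one,
      Pi.sub_apply] at h2 h3
    exact ⟨by rw [h1, h1], by rw [h1, h1], z_rot _ _ _ m h2 h3⟩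
  refine ⟨F, σ, x, hr, h, vy, σQ, σa, σpm, σmt, xQ, xa, xpm, xmt, fun q hq => ⟨hE q hq, fun hq' => ?_⟩⟩
  have aE : a ∈ Q3 a ⊓ A := ⟨aQ F, h.symm.mem, mem_centralizer_singleton_iff.2 rfl⟩
  have h1 := card_inf_mul (Q3 a) A
  rw [h.card_star, le_antisymm (F.idx_nine σa σ1 σ3 (T := A) inf_le_right (p3 inf_le_left)
    fun g hg => zpowers_le.2 h.mem (comm_z F' σQ hg.1)).1 h9,
    F.card_eq inf_le_left aE] at h1
  have h2 : F.vec '' (Q3 a ⊓ A : Subgroup G) = {w | InE w} :=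
    Set.eq_of_subset_of_ncard_le (by rintro _ ⟨e, he, rfl⟩; exact hE e he.1 he.2.1)
      (ncard_InE.trans (by omega))
  obtain ⟨e, he, ev⟩ : F.vec q ∈ F.vec '' (Q3 a ⊓ A : Subgroup G) := h2 ▸ hq'
  exact mem_of_vec F h.symm.mem hq he.1 he.2.1 ev.symm

/-- The elements of a coset of `⟨a⟩` in `Q3 a` are conjugate. -/
theorem cj_z (F : F3 a) {q z : G} (hq : q ∈ Q3 a) (hn : q ∉ zpowers a) (hz : z ∈ zpowers a) :
    ∃ p ∈ Q3 a, p * q * p⁻¹ = z * q := by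
  obtain ⟨w, hw, e⟩ := F.esz.exists_commutator_eq hq hn
  obtain ⟨n, rfl⟩ := hz
  have h1 := F.esz.commutator_zpow_right hq hw (-n)
  rw [e, commutatorElement_def] at h1
  refine ⟨w ^ (-n), zpow_mem hw _, ?_⟩
  calc _ = (q⁻¹ * (q * w ^ (-n) * q⁻¹ * (w ^ (-n))⁻¹))⁻¹ := by group
    _ = _ := by rw [h1]; group

theorem Pq.sum0 (h : Pq a y) (F : F3 a) {g : G} (hg : g * a = a * g) (h1 : F.pm g = 1) : ∑ i, chi (F.mt g i) = 0 := by
  obtain ⟨F'⟩ := h.fy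
  obtain ⟨σ, σQ, σa, σ1⟩ := h.exists_pm F
  have σ3 := pm_cube F σa (F'.cube σ σQ)
  have k : ∀ (m : S3) (v : Fin 2 → ZMod 3), v ≠ 0 → ∃ n : S3, n ^ 4 = 1 ∧ (n * m).1.mulVec v = v := by decide +kernel
  choose n hn hv using fun i => k (F.mt g i) _ (h.vec_ne F i)
  obtain ⟨ρ, hρ, e⟩ := F.R_surj n hn
  have c1 := cm (F.b_Rc hρ) hg
  have p1 : F.pm (ρ * g) = 1 := by rw [F.pm_mul _ _ (F.b_Rc hρ) hg, h1, (F.pm_R hρ).1, one_mul]
  have y1 := cjQ c1 h.mem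
  obtain ⟨p, hp, e1⟩ := cj_z F h.mem h.nz ((F.vec_eq y1 h.mem).1 (funext fun i => by
    rw [act1 F c1 p1 h.mem, mt_mul1 F (F.b_Rc hρ) hg h1, e, hv]))
  have c2 := cm (ci (qa hp)) c1
  have p2 : F.pm (p⁻¹ * (ρ * g)) = 1 := by rw [F.pm_mul _ _ (ci (qa hp)) c1, p1, pmQ F (inv_mem hp), one_mul]
  have c3 : p⁻¹ * (ρ * g) * y = y * (p⁻¹ * (ρ * g)) := by
    rw [inv_mul_cancel_right] at e1
    calc _ = p⁻¹ * (ρ * g * y * (ρ * g)⁻¹) * (ρ * g) := by group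
      _ = _ := by rw [← e1]; group
  have h2 : ∀ i, chi (F.mt (p⁻¹ * (ρ * g)) i) = chi (F.mt g i) := fun i => by
    rw [mt_mul1 F (ci (qa hp)) c1 p1, mtQ F (inv_mem hp), one_mul, mt_mul1 F (F.b_Rc hρ) hg h1, chi_mul, e,
      (chi_eq_zero _).2 (hn i), zero_add]
  simp only [← h2]
  generalize p⁻¹ * (ρ * g) = b at c2 p2 c3
  have m : σ * b * σ⁻¹ * b⁻¹ ∈ Q3 y := by
    simpa only [mul_assoc] using mul_mem σQ (cjQ c3 (inv_mem σQ))
  have c4 := cm (cm (cm σa c2) (ci σa)) (ci c2)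
  refine F.sum_of_const σa σ1 σ3 c2 p2 (F.chi_eq σa σ1 σ3 c4 ?_ (zpowers_le.2 h.mem (comm_z F' σQ m)))
  rw [F.pm_mul _ _ (cm (cm σa c2) (ci σa)) (ci c2), F.b_pm_cj σa c2 p2, pm_inv1 F c2 p2, one_mul]

theorem Pq.eq1 (h : Pq a y) (F0 : F3 a) {i : Fin 3} {e : G} (he : e ∈ F0.P i) (he' : e ∈ Q3 y) : e ∈ zpowers a := by
  obtain ⟨F, σ, x, hr, s⟩ := h.exists_st F0
  have k : ∀ (i : Fin 3) (w : W6), InE w → (∀ j, j ≠ i → w j = 0) → w = 0 := by
    unfold InE; decide +kernel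
  exact (F.vec_eq_zero e he.1).1 (k i _ ((s.inE e he.1).1 he') fun j hj => hr e j (he.2 j hj))

/-- The conjugates of `a` have the same property. -/
theorem Pq.exists_ze (h : Pq a y) {x : G} (hx : ZE a x) : ∃ y', Pq x y' := by
  by_contra hn
  have w : Wc x := fun y' hy hz => by_contra fun e => hn ⟨y', fun z hz => h.hf z (ze_trans hx hz), hy, hz, e⟩
  refine h.nz ((?_ : Wc a) y h.mem h.ze)
  rcases ze_symm hx with e | e <;> obtain ⟨g, rfl⟩ := isConj_iff.1 e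
  exacts [wc_cj w g, wc_cj (wc_inv w) g]

end Cfsg.Agent.E3.FB
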