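import Mathlib
import Cfsg.Agent.E3.FB1
import Cfsg.Agent.E3.FA1

/-!
The letters of the elementary abelian group `J` of order `3^5`.
-/

set_option autoImplicit false
set_option linter.unusedSectionVars false

namespace Cfsg.Agent.E3

open Cfsg.Agent.Spor Cfsg.Agent.Rec Cfsg.Agent.Inv.Fz Cfsg.Agent.GT.PG Subgroup Cfsg.Agent.T3.LB
open Cfsg.Agent.T3 hiding F3 HF FJ
open Cfsg.Agent.T3.FB (tv_vec one_vec neg_vec eq_tv exists_b s_inv p_inv p_rot p_det rot_ne rot_cube tv_one_ne neg_ne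
  w6_ext sf_eq relIndex_le card_inf_mul qa cjQ ci cm p3 z_one InE ncard_InE z_rot z_pm z_a z_b z_c z_d z_comm)
open Cfsg.Agent.T3.FA (kap kap_mul ncard_kap orb_le orb_all)

universe u

variable {G : Type u} [Group G] [Finite G]

namespace FB

variable {a y : G}

/-- The elements of `Q3 a` with all second coordinates zero. -/
def Dg (F : F3 a) : Subgroup G where
  carrier := {q | q ∈ Q3 a ∧ ∀ i, F.vec q i 1 = 0}
  one_mem' := ⟨one_mem _, fun i => by rw [vec_z F (one_mem _)]; rfl⟩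
  mul_mem' := fun {p q} hp hq => ⟨mul_mem hp.1 hq.1, fun i => by
    rw [F.vec_mul p hp.1 q hq.1, Pi.add_apply, Pi.add_apply, hp.2, hq.2, add_zero]⟩
  inv_mem' := fun {p} hp => ⟨inv_mem hp.1, fun i => by
    rw [F.vec_inv hp.1, Pi.neg_apply, Pi.neg_apply, hp.2, neg_zero]⟩

theorem aD (F : F3 a) : a ∈ Dg F := ⟨aQ F, fun i => by rw [vec_z F (mem_zpowers a)]; rfl⟩

theorem D_comm (F : F3 a) {p q : G} (hp : p ∈ Dg F) (hq : q ∈ Dg F) : p * q = q * p :=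
  (F.commute_iff hp.1 hq.1).2 (by simp [sf_eq, hp.2, hq.2])

namespace St

variable {F : F3 a} {F' : F3 y} {σ x σ' x' : G}

theorem yD (h : St F y σ x) : y ∈ Dg F := ⟨h.pq.mem, fun i => by rw [h.vy]; rfl⟩

theorem x_nQ (h : St F y σ x) : x ∉ Q3 a := fun hx => tv_one_ne ((h.xmt 0).symm.trans (mtQ F hx 0))

theorem D_le (h : St F y σ x) (h' : St F' a σ' x') {d : G} (hd : d ∈ Dg F) (hd' : d ∈ Q3 y) :
    d ∈ Dg F' := by
  have hs := (F.commute_iff h.pq.mem h'.xQ).1 h'.xa.symm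
  simp only [sf_eq, h.vy, Matrix.cons_val_zero, Matrix.cons_val_one, one_mul, zero_mul, sub_zero] at hs
  have hK : ∀ g ∈ Q3 y, g * x' * g⁻¹ * x'⁻¹ ∈ Dg F' := fun g hg => by
    have : x' * g * x'⁻¹ * g⁻¹ ∈ Dg F' := ⟨mul_mem (cjQ h'.xa hg) (inv_mem hg), fun i =>
      (vec_tv F' h'.xa h'.xpm hg (h'.xmt i)).2⟩
    simpa [mul_assoc] using inv_mem this
  have q1 : x * x' * x⁻¹ * x'⁻¹ ∈ Q3 a := mul_mem (cjQ h.xa h'.xQ) (inv_mem h'.xQ)
  have q2 : σ * x' * σ⁻¹ * x'⁻¹ ∈ Q3 a := mul_mem (cjQ h.σa h'.xQ) (inv_mem h'.xQ)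
  have v1 := fun i => vec_tv F h.xa h.xpm h'.xQ (h.xmt i)
  have v2 := vec_rot F h.σa h.σpm h.σmt h'.xQ
  set w := F.vec x' with hw
  by_cases hb : w 0 1 = w 1 1 ∧ w 1 1 = w 2 1
  · have hx : w 0 0 + w 1 0 + w 2 0 ≠ 0 := fun e => h'.x_nQ ((h.inE _ h'.xQ).2 ⟨hb.1, hb.2, e⟩)
    obtain ⟨i, j, hij⟩ := z_b ![w 2 0 - w 0 0, w 0 0 - w 1 0, w 1 0 - w 2 0] (fun k => F.vec d k 0)
      (by simp) (z_c _ _ _ hx) ((h.inE d hd.1).1 hd').2.2
    refine mem_of_vec3 F h'.yD hd.1 h.pq.mem q2 q2 (aD F') (hK σ h.σQ) (hK σ h.σQ) i j 0 ?_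
    rw [v2]
    refine w6_ext (fun k => ?_) fun k => ?_
    · rw [hij k]
      simp only [Pi.add_apply, Pi.smul_apply, h.vy, smul_eq_mul]
      fin_cases k <;> simp
    · rw [hd.2]
      simp only [Pi.add_apply, Pi.smul_apply, h.vy, smul_eq_mul]
      fin_cases k <;> simp [hb.1, hb.2]
  exfalso
  obtain ⟨e, he, ve⟩ := F'.vec_surj fun _ => ![0, 1]
  have he' : e ∈ Q3 a := (h'.inE e he).2 (by rw [ve]; exact ⟨rfl, rfl, by simp⟩)
  obtain ⟨e1, e2, e3⟩ := (h.inE e he').1 he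
  obtain ⟨k, k0, k1, k2⟩ := z_a _ _ _ hs hb (F.vec e 0 1)
  obtain ⟨i, j, hij⟩ := z_b (fun k => w k 1) ![F.vec e 0 0 - k * (w 2 0 - w 0 0),
    F.vec e 1 0 - k * (w 0 0 - w 1 0), F.vec e 2 0 - k * (w 1 0 - w 2 0)] hs hb (by
      simp only [Matrix.cons_val_zero, Matrix.cons_val_one, Matrix.cons_val]
      linear_combination e3)
  have : e ∈ Dg F' := by
    refine mem_of_vec3 F h'.yD he' h.pq.mem q1 q2 (aD F') (hK x h.xQ) (hK σ h.σQ) i j k ?_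
    rw [v2]
    have h0 := hij 0
    have h1 := hij 1
    have h2 := hij 2
    simp only [Matrix.cons_val_zero, Matrix.cons_val_one, Matrix.cons_val] at h0 h1 h2
    refine w6_ext (fun l => ?_) fun l => ?_ <;>
      simp only [Pi.add_apply, Pi.smul_apply, h.vy, (v1 _).1, (v1 _).2, smul_eq_mul] <;> fin_cases l
    · simp; linear_combination h0
    · simp; linear_combination h1
    · simp; linear_combination h2
    · simpa using k0
    · simpa [← e1] using k1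
    · simpa [← e2, ← e1] using k2
  simpa [ve] using this.2 0

theorem an (h : St F y σ x) (h' : St F' a σ' x') {g : G} (hg : g ∈ Dg F') :
    g * a = a * g ∧ F.pm g = 1 ∧ ∃ k, ∀ i, F.mt g i = tv k := by
  have ga : g * a = a * g := D_comm F' hg h'.yD
  have hm := mt_eq_tv F h.pq.mem h.vy ga (qa hg.1)
  obtain ⟨e, he, ve⟩ := F.vec_surj ![![1, 0], ![2, 0], ![0, 0]]
  have heD : e ∈ Dg F := ⟨he, fun i => by rw [ve]; fin_cases i <;> rfl⟩
  have he' : e ∈ Q3 y := (h.inE e he).2 (by rw [ve]; exact ⟨rfl, rfl, by decide⟩)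
  have hp : F.pm g = 1 := by
    refine Equiv.ext fun i => ?_
    have h1 := congrFun (F.act g ga e he i) 0
    rw [D_comm F' hg (h.D_le h' heD he'), mul_inv_cancel_right, hm, tv_vec, heD.2, ve] at h1
    revert h1
    generalize F.pm g i = j
    fin_cases i <;> fin_cases j <;> simp <;> decide
  exact ⟨ga, hp, _, fun i => by
    rw [hm, F.chi_eq h.σa (h.σpm ▸ rot_ne) (h.σpm ▸ rot_cube) ga hp
      (zpowers_le.2 h.pq.mem (comm_z F' h.σQ hg.1)) i 0]⟩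

theorem comm_a (h : St F y σ x) (h' : St F' a σ' x') {d g : G} (hd : d ∈ Dg F) (hg : g ∈ Dg F') :
    g * d * g⁻¹ * d⁻¹ ∈ zpowers a := by
  obtain ⟨ga, hp, k, hk⟩ := h.an h' hg
  refine (F.vec_eq_zero _ (mul_mem (cjQ ga hd.1) (inv_mem hd.1))).1 (w6_ext (fun i => ?_) fun i => ?_)
  · rw [(vec_tv F ga hp hd.1 (hk i)).1, hd.2, mul_zero]; rfl
  · exact (vec_tv F ga hp hd.1 (hk i)).2

theorem DD (h : St F y σ x) (h' : St F' a σ' x') {d g : G} (hd : d ∈ Dg F) (hg : g ∈ Dg F') :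
    g * d = d * g := by
  rw [← mul_inv_eq_iff_eq_mul, ← mul_inv_eq_one]
  exact h.pq.eq_one (h.comm_a h' hd hg) (by simpa [mul_assoc] using inv_mem (h'.comm_a h hg hd))

/-- `D ≤ D' ⟨w⟩` for `w ∈ D` with coordinate sum one. -/
theorem D_sup (h : St F y σ x) (h' : St F' a σ' x') {w : G} (hw : w ∈ Dg F)
    (hs : F.vec w 0 0 + F.vec w 1 0 + F.vec w 2 0 = 1) {K : Subgroup G} (h1 : Dg F' ≤ K) (h2 : w ∈ K) :
    Dg F ≤ K := fun d hd => by
  set m := F.vec d 0 0 + F.vec d 1 0 + F.vec d 2 0 with hm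
  have h3 : d * (w ^ m.val)⁻¹ ∈ Dg F := mul_mem hd (inv_mem (pow_mem hw _))
  have h4 : d * (w ^ m.val)⁻¹ ∈ Q3 y := (h.inE _ h3.1).2 ⟨by rw [h3.2, h3.2], by rw [h3.2, h3.2], by
    rw [vec_div F hd.1 (pow_mem hw.1 _), F.vec_pow hw.1]
    simp only [Pi.sub_apply, Pi.smul_apply, smul_eq_mul]
    linear_combination hm.symm - m * hs⟩
  simpa using mul_mem (h1 (h.D_le h' h3 h4)) (pow_mem h2 m.val)

end St

theorem exists_P (F : F3 a) (i : Fin 3) (v : Fin 2 → ZMod 3) :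
    ∃ p ∈ F.P i, F.vec p = Pi.single i v ∧ F.r i * p * (F.r i)⁻¹ = p⁻¹ := by
  obtain ⟨q, hq, vq⟩ := F.vec_surj (Pi.single i v)
  have hP : q ∈ F.P i := ⟨hq, fun j hj => by rw [vq, Pi.single_eq_of_ne hj]⟩
  obtain ⟨p, ⟨h1, h2⟩, -⟩ := F.r_inv i hP
  have hp : p ∈ Q3 a := by simpa using mul_mem (zQ F h1) hq
  have vp : F.vec p = Pi.single i v := ((F.vec_eq hp hq).2 h1).trans vq
  exact ⟨p, ⟨hp, fun j hj => by rw [vp, Pi.single_eq_of_ne hj]⟩, vp, h2⟩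

theorem P_comm (F : F3 a) {i j : Fin 3} (h : i ≠ j) {p q : G} (hp : p ∈ F.P i) (hq : q ∈ F.P j) :
    p * q = q * p := by
  refine (F.commute_iff hp.1 hq.1).2 (Finset.sum_eq_zero fun k _ => ?_)
  by_cases hk : k = i
  · simp [hq.2 k (hk ▸ h)]
  · simp [hp.2 k hk]

theorem adj (F : F3 a) {c : G} (ca : c * a = a * c) (cp : F.pm c = 1) {k : ZMod 3} (k0 : k ≠ 0)
    (ck : ∀ i, F.mt c i = tv k) (cD : ∀ d ∈ Dg F, c * d = d * c) :
    ∃ q ∈ Q3 a, ∀ i, c * (q * F.r i * q⁻¹) = q * F.r i * q⁻¹ * c := by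
  have h1 : ∀ i, ∃ q ∈ F.P i, c * (q * F.r i * q⁻¹) = q * F.r i * q⁻¹ * c := by
    intro i
    have ta : c * F.r i * c⁻¹ * a = a * (c * F.r i * c⁻¹) := cm (cm ca (ra F i)) (ci ca)
    obtain ⟨p, hp, ep⟩ := F.conj_r i (t := c * F.r i * c⁻¹)
      (by rw [conj_mul, F.r2, mul_one, mul_inv_cancel]) ((F.ker _ (cm ta (ra F i))).2 ⟨by
        rw [F.pm_mul _ _ ta (ra F i), F.pm_mul _ _ (cm ca (ra F i)) (ci ca), F.pm_mul _ _ ca (ra F i),
          pm_inv1 F ca cp, cp, rpm]; rfl, fun j => by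
        rw [mt_mul1 F ta (ra F i) (rpm F i), mt_mul1 F (cm ca (ra F i)) (ci ca) (pm_inv1 F ca cp),
          mt_mul1 F ca (ra F i) (rpm F i), mt_inv1 F ca cp]
        rcases rmt F i j with e | e <;> simp [e]⟩)
    obtain ⟨u, hu, vu, ru⟩ := exists_P F i ![1, 0]
    have uD : u ∈ Dg F := ⟨hu.1, fun j => by
      rw [vu]
      by_cases hj : j = i
      · subst hj; simp
      · simp [hj]⟩
    have e1 : p⁻¹ * u * p = u := by
      refine (F.r_inv i hu).unique ⟨by simpa using comm_z F (inv_mem hp.1) hu.1, ?_⟩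
        ⟨by simp, ru⟩
      have e2 : c * F.r i * c⁻¹ * u * (c * F.r i * c⁻¹)⁻¹ = u⁻¹ := by
        calc _ = c * (F.r i * (c⁻¹ * u * c) * (F.r i)⁻¹) * c⁻¹ := by group
          _ = (c * u * c⁻¹)⁻¹ := by rw [mul_assoc c⁻¹, ← cD u uD, inv_mul_cancel_left, ru]; group
          _ = u⁻¹ := by rw [cD u uD, mul_inv_cancel_right]
      rw [ep] at e2
      calc _ = p⁻¹ * (p * F.r i * p⁻¹ * u * (p * F.r i * p⁻¹)⁻¹) * p := by group
        _ = _ := by rw [e2]; group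
    have hβ : F.vec p i 1 = 0 := by
      have := (F.commute_iff hu.1 hp.1).1 (by rw [← mul_left_cancel_iff (a := p⁻¹), ← mul_assoc, e1]; simp)
      rw [sf, Finset.sum_eq_single i (fun j _ hj => by simp [vu, hj]) (by simp), vu] at this
      simpa using this
    obtain ⟨q, hq, vq, -⟩ := exists_P F i ![0, -(k * F.vec p i 0)]
    have hz : q⁻¹ * (c * q * c⁻¹) * p ∈ zpowers a := by
      have m1 := cjQ ca hq.1
      rw [← F.vec_eq_zero _ (mul_mem (mul_mem (inv_mem hq.1) m1) hp.1),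
        F.vec_mul _ (mul_mem (inv_mem hq.1) m1) _ hp.1, F.vec_mul _ (inv_mem hq.1) _ m1, F.vec_inv hq.1]
      funext j
      simp only [Pi.add_apply, Pi.neg_apply, act1 F ca cp hq.1, ck, tv_vec, vq]
      by_cases hj : j = i
      · subst hj
        funext l
        fin_cases l
        · simp [← mul_assoc, z3_sq k k0]
        · simp [hβ]
      · simp [hj, hp.2 j hj]
    refine ⟨q, hq, ?_⟩
    have e3 := z_comm (ra F i) hz
    calc c * (q * F.r i * q⁻¹) = c * q * c⁻¹ * (c * F.r i * c⁻¹) * (c * q * c⁻¹)⁻¹ * c := by group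
      _ = q * (q⁻¹ * (c * q * c⁻¹) * p * F.r i) * (q⁻¹ * (c * q * c⁻¹) * p)⁻¹ * q⁻¹ * c := by
        rw [ep]; group
      _ = _ := by rw [← e3]; group
  choose q hq hc using h1
  have key : ∀ i j, j ≠ i → Commute (q j) (q i * F.r i * (q i)⁻¹) := fun i j hj =>
    ((Commute.mul_right (P_comm F hj (hq j) (hq i)) (F.r_P hj (hq j)).symm).mul_right
      (Commute.inv_right (P_comm F hj (hq j) (hq i))))
  have kr : ∀ i j, j ≠ i → q j * F.r i * (q j)⁻¹ = F.r i := fun i j hj => by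
    rw [← F.r_P hj (hq j), mul_inv_cancel_right]
  refine ⟨q 0 * q 1 * q 2, mul_mem (mul_mem (hq 0).1 (hq 1).1) (hq 2).1, fun i => ?_⟩
  have : q 0 * q 1 * q 2 * F.r i * (q 0 * q 1 * q 2)⁻¹ = q i * F.r i * (q i)⁻¹ := by
    have e : q 0 * q 1 * q 2 * F.r i * (q 0 * q 1 * q 2)⁻¹ =
      q 0 * (q 1 * (q 2 * F.r i * (q 2)⁻¹) * (q 1)⁻¹) * (q 0)⁻¹ := by group
    rw [e]
    obtain rfl | rfl | rfl : i = 0 ∨ i = 1 ∨ i = 2 := by fin_cases i <;> simp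
    · rw [kr _ 2 (by decide), kr _ 1 (by decide)]
    · rw [kr _ 2 (by decide), (key 1 0 (by decide)).eq, mul_inv_cancel_right]
    · rw [(key 2 1 (by decide)).eq, mul_inv_cancel_right, (key 2 0 (by decide)).eq,
        mul_inv_cancel_right]
  rw [this, hc]

theorem St.congr {F F2 : F3 a} {σ x : G} (h : St F y σ x) (e1 : F2.vec = F.vec) (e2 : F2.pm = F.pm)
    (e3 : F2.mt = F.mt) : St F2 y σ x :=
  ⟨h.pq, e1 ▸ h.vy, h.σQ, h.σa, e2 ▸ h.σpm, e3 ▸ h.σmt, h.xQ, h.xa, e2 ▸ h.xpm, e3 ▸ h.xmt, e1 ▸ h.inE⟩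

/-- The involution `t` and the letter `c`. -/
theorem exists_tc {F : F3 a} {F' : F3 y} {σ x σ' x' : G} (h : St F y σ x) (h' : St F' a σ' x') :
    ∃ (t c : G) (k : ZMod 3), t * t = 1 ∧ t ∈ normalizer ((Dg F ⊔ Dg F' : Subgroup G) : Set G) ∧
      (t * a * t⁻¹ = c ∨ t * a * t⁻¹ = c⁻¹) ∧ c ∈ Dg F' ∧ (k = 1 ∨ k = -1) ∧
      F'.vec c 0 0 = -k ∧ F'.vec c 1 0 = k ∧ F'.vec c 2 0 = k ∧ ∀ i, F.mt c i = tv 1 := by
  obtain ⟨w, hw, vw⟩ := F.vec_surj ![![1, 0], 0, 0]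
  have wD : w ∈ Dg F := ⟨hw, fun i => by rw [vw]; fin_cases i <;> rfl⟩
  have ws : F.vec w 0 0 + F.vec w 1 0 + F.vec w 2 0 = 1 := by rw [vw]; simp
  obtain ⟨wy, wp, l, wl⟩ := h'.an h wD
  obtain ⟨q, hq, hc⟩ := adj F' wy wp (k := l) (fun e => by
    have := ((h.inE w hw).1 ((F'.ker w wy).2 ⟨wp, fun i => by rw [wl, e, tv_zero]⟩)).2.2
    rw [ws] at this
    exact one_ne_zero this) wl fun d hd => (h.DD h' wD hd).symm
  set t := q * F'.r 0 * q⁻¹ with ht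
  have ty : t * y = y * t := cm (cm (qa hq) (ra F' 0)) (ci (qa hq))
  have tp : F'.pm t = 1 := by
    rw [ht, F'.pm_mul _ _ (cm (qa hq) (ra F' 0)) (ci (qa hq)), F'.pm_mul _ _ (qa hq) (ra F' 0),
      pmQ F' hq, pmQ F' (inv_mem hq), rpm]; rfl
  have tm : ∀ j, F'.mt t j = if j = 0 then -1 else 1 := fun j => by
    rw [ht, mt_mul1 F' (cm (qa hq) (ra F' 0)) (ci (qa hq)) (pmQ F' (inv_mem hq)),
      mt_mul1 F' (qa hq) (ra F' 0) (rpm F' 0), mtQ F' hq, mtQ F' (inv_mem hq), F'.r_mt, one_mul, mul_one]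
  have tD : ∀ d ∈ Dg F', t * d * t⁻¹ ∈ Dg F' := fun d hd => ⟨cjQ ty hd.1, fun i => by
    rw [act1 F' ty tp hd.1, tm]
    split_ifs
    · rw [neg_vec, Pi.neg_apply, hd.2, neg_zero]
    · rw [one_vec, hd.2]⟩
  have hn : t ∈ normalizer ((Dg F ⊔ Dg F' : Subgroup G) : Set G) := by
    have e : Dg F ⊔ Dg F' = Dg F' ⊔ zpowers w := le_antisymm
      (sup_le (h.D_sup h' wD ws le_sup_left (mem_sup_right (mem_zpowers w))) le_sup_left)
      (sup_le le_sup_right ((zpowers_le.2 wD).trans le_sup_left))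
    rw [e, ← cj_eq_iff, cj_sup, cj_zpowers, ← hc 0, mul_inv_cancel_right,
      cj_eq_of_le (cj_le_iff.2 tD)]
  have v0 : ∀ j, F'.vec (t * a * t⁻¹) j 0 = if j = 0 then -1 else 1 := fun j => by
    rw [act1 F' ty tp h'.pq.mem, tm, h'.vy]
    split_ifs
    · rw [neg_vec]; rfl
    · rw [one_vec]; rfl
  have cD := tD a h'.yD
  obtain ⟨ca, cp, k, ck⟩ := h.an h' cD
  have t2 : t * t = 1 := by rw [ht, conj_mul, F'.r2, mul_one, mul_inv_cancel]
  rcases z_pm k (fun e => by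
    have := ((h'.inE _ cD.1).1 ((F.ker _ ca).2 ⟨cp, fun i => by rw [ck, e, tv_zero]⟩)).2.2
    simp [v0] at this) with e | e
  · exact ⟨t, _, 1, t2, hn, .inl rfl, cD, .inl rfl, by simp [v0], by simp [v0], by simp [v0],
      fun i => by rw [ck, e]⟩
  · refine ⟨t, (t * a * t⁻¹)⁻¹, -1, t2, hn, .inr (inv_inv _).symm, inv_mem cD, .inr rfl, ?_, ?_, ?_,
      fun i => by rw [mt_inv1 F ca cp, ck, tv_inv, e]⟩ <;>
    rw [F'.vec_inv cD.1, Pi.neg_apply, Pi.neg_apply, v0] <;> simp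

theorem ze_aux {F : F3 a} {F' : F3 y} {σ x σ' x' c : G} (h : St F y σ x) (h' : St F' a σ' x') {k : ZMod 3}
    (cD : c ∈ Dg F') (hk : k = 1 ∨ k = -1) (c0 : F'.vec c 0 0 = -k) (c1 : F'.vec c 1 0 = k)
    (cm1 : ∀ i, F.mt c i = tv 1) {d : G} (hd : d ∈ Dg F) (hz : ZE a (c * d)) :
    ∃ q ∈ Q3 a, q * (c * d) * q⁻¹ = c := by
  obtain ⟨ca, cp, -⟩ := h.an h' cD
  obtain ⟨q, hq, vq⟩ := F.vec_surj fun i => ![0, F.vec d i 0]
  have m1 : c⁻¹ * q * c⁻¹⁻¹ ∈ Q3 a := cjQ (ci ca) hq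
  have hz1 : c⁻¹ * q * c⁻¹⁻¹ * d * q⁻¹ ∈ zpowers a := by
    rw [← F.vec_eq (mul_mem m1 hd.1) hq, F.vec_mul _ m1 _ hd.1]
    funext j
    rw [Pi.add_apply, act1 F (ci ca) (pm_inv1 F ca cp) hq, mt_inv1 F ca cp, cm1, tv_inv, tv_vec, vq]
    funext l
    fin_cases l <;> simp [hd.2]
  obtain ⟨l, hl⟩ := exists_val (ord F) hz1
  have e : q * (c * d) * q⁻¹ = c * a ^ l.val := by rw [← hl]; group
  refine ⟨q, hq, ?_⟩
  by_cases l0 : l = 0
  · rw [e, l0]; simp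
  exfalso
  have m2 : a ^ l.val ∈ Q3 y := pow_mem h'.pq.mem _
  have hv : ∀ i, F'.vec (c * a ^ l.val) i = ![F'.vec c i 0 + l, 0] := fun i => by
    rw [F'.vec_mul _ cD.1 _ m2, F'.vec_pow h'.pq.mem, Pi.add_apply, Pi.smul_apply, h'.vy]
    funext j
    fin_cases j <;> simp [cD.2]
  have hy : c * a ^ l.val ∈ zpowers y := by
    have zz : ZE y (c * a ^ l.val) := ze_trans h'.pq.ze (e ▸ ze_cj hz q)
    rcases z_d k l l0 hk with e1 | e1
    · exact wc h'.pq.hf F' _ (mul_mem cD.1 m2) zz 0 (by rw [hv, c0, e1]; simp)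
    · exact wc h'.pq.hf F' _ (mul_mem cD.1 m2) zz 1 (by rw [hv, c1, e1]; simp)
  have : c ∈ Q3 a := by simpa using mul_mem (zpowers_le.2 h.pq.mem hy) (inv_mem (pow_mem (aQ F) l.val))
  exact tv_one_ne ((cm1 0).symm.trans (mtQ F this 0))

theorem Pq.noT2 (h : Pq a y) (F0 : F3 a) {x : G} (xz : ZE a x) (xa : x * a = a * x) (x1 : F0.pm x = 1)
    (xn : x ∉ Q3 a) (i : Fin 3) : chi (F0.mt x i) ≠ 0 := fun h0 => by
  obtain ⟨F'⟩ := h.hf x xz
  obtain ⟨y', hy'⟩ := h.exists_ze xz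
  have an : a ∉ Q3 x := fun e => xn (Pq.symm ⟨hy'.hf, e, ze_symm xz, fun e' => xn (zQ F0 (by
    rw [zp_eq (ord F') e' F0.esz.z_ne_one]; exact mem_zpowers x))⟩).mem
  obtain ⟨F, k, n, hk⟩ := FA.exists_nf F0 xa (F'.cube x (aQ F')) x1
  rw [hk] at h0
  have c1 : ∀ i : Fin 3, (Finset.univ.filter fun w : W6 => ∀ j, j ≠ i → w j 1 = 0).card = 81 := by decide +kernel
  have c2 : ∀ i : Fin 3, (Finset.univ.filter fun w : W6 => w i 0 = 0 ∧ ∀ j, w j 1 = 0).card = 9 := by decide +kernel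
  let C := FA.pre F (fun w => ∀ j, j ≠ i → w j 1 = 0) (fun _ _ => rfl) fun w w' e e' j hj => by
    rw [Pi.add_apply, Pi.add_apply, e j hj, e' j hj, add_zero]
  let D := FA.pre F (fun w => w i 0 = 0 ∧ ∀ j, w j 1 = 0) ⟨rfl, fun _ => rfl⟩ fun w w' e e' =>
    ⟨by rw [Pi.add_apply, Pi.add_apply, e.1, e'.1, add_zero],
      fun j => by rw [Pi.add_apply, Pi.add_apply, e.2 j, e'.2 j, add_zero]⟩
  have h3 := orb_le (C := C) (S := zpowers a) (x := x) fun q hq => by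
    rw [← F.vec_eq_zero _ (FA.kap_mem F xa hq.1), n.vec hq.1]
    funext j
    by_cases e : j = i
    · rw [e, h0]; simp
    · rw [hq.2 j e]; simp
  rw [FA.card_pre F _ _ _ (c1 i), FA.card_Z F] at h3
  have h5 := F.card_cen_le F' xa an xn
  have h6 : Nat.card D = 27 := FA.card_pre F _ _ _ (c2 i)
  have h7 : ∀ d ∈ D, d ∈ Q3 x → d = 1 := fun d hd hd' => by
    obtain ⟨q, -, e⟩ := orb_all (C := Q3 a) (S := D) (x := x) (fun q hq => ⟨FA.kap_mem F xa hq, by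
      rw [n.vec hq]; simp [h0]⟩) (by rw [h6, F.card]; omega) hd
    have z1 : ZE a (d * x) := by rw [← e, kap_mul]; exact ze_cj xz q
    by_contra d1
    have m : d * x ∉ zpowers x := fun e => xn (zpowers_le.2 hd.1 (by
      rw [zp_eq (ord F') ((mul_mem_cancel_right (mem_zpowers x)).1 e) d1]; exact mem_zpowers x))
    obtain ⟨p, -, e1⟩ := cj_z F' (mul_mem hd' (aQ F')) m (inv_mem (mem_zpowers x))
    rw [qa hd', inv_mul_cancel_left, ← qa hd'] at e1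
    have z2 := wc h.hf F d hd.1 (e1 ▸ ze_cj z1 p) i (by
      funext l
      fin_cases l
      exacts [hd.2.1, hd.2.2 i])
    exact an (zpowers_le.2 hd' (by rw [zp_eq (ord F) z2 d1]; exact mem_zpowers a))
  have hD : ∀ d ∈ D, ∀ y ∈ C, d * y = y * d := fun d hd y hy => by
    rw [F.commute_iff hd.1 hy.1, sf]
    refine Finset.sum_eq_zero fun j _ => ?_
    by_cases e : j = i
    · rw [e, hd.2.1, hd.2.2]; simp
    · rw [hy.2 j e, hd.2.2]; simp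
  have h8 : C ⊓ centralizer {x} = Q3 a ⊓ centralizer {x} :=
    eq_of_le_of_card_ge (inf_le_inf_right _ fun _ h => h.1) (by omega)
  by_cases ab : ∀ p ∈ Q3 a ⊓ centralizer {x}, ∀ q ∈ Q3 a ⊓ centralizer {x}, p * q = q * p
  · have d1 : D ≤ centralizer {x} := fun d hd => (FA.mem_of_max F inf_le_left ab (by rw [← h8]; omega) hd.1
      fun y hy => hD d hd y (h8.ge hy).1).2
    have d2 : IsPGroup 3 D := p3 fun _ hd => hd.1
    have d3 := relIndex_mul_card_inf (Q3 x) D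
    rw [show Q3 x ⊓ D = ⊥ from eq_bot_iff.2 fun d hd => h7 d hd.2 hd.1, card_bot] at d3
    rcases F'.b_nine d1 d2 (fun p hp q hq => by
      rw [hD p hp q ⟨hq.1, fun j _ => hq.2.2 j⟩, mul_inv_cancel_right, mul_inv_cancel]; exact one_mem _) with e | e
    · have := (F'.idx_sum d1 d2 fun g hg => hy'.sum0 F' (mem_cen.1 (d1 hg))).2 e
      omega
    · omega
  push Not at ab
  obtain ⟨p, hp, q, hq, e⟩ := ab
  obtain ⟨k1, -, k2⟩ := F.nonab F' xa an xn hp hq e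
  have k3 := relIndex_mul_card_inf (Q3 x) (Q3 a ⊓ centralizer {x})
  refine absurd (show Q3 x ⊓ (Q3 a ⊓ centralizer {x}) = ⊥ from eq_bot_iff.2 fun b hb => h7 b ?_ hb.1)
    fun e => by rw [e, card_bot, ← h8] at k3; rw [← h8] at k1; omega
  have s1 : ∀ p ∈ C, ∀ q ∈ C, sf (F.vec p) (F.vec q) = F.vec p i 0 * F.vec q i 1 - F.vec p i 1 * F.vec q i 0 :=
    fun p hp q hq => Finset.sum_eq_single i (fun j _ hj => by rw [hp.2 j hj, hq.2 j hj]; simp) (by simp)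
  have bC := (h8.ge hb.2).1
  have e1 := (F.commute_iff hp.1 hb.2.1).1 (k2 b hb p hp)
  have e2 := (F.commute_iff hq.1 hb.2.1).1 (k2 b hb q hq)
  rw [Ne, F.commute_iff hp.1 hq.1, s1 p (h8.ge hp).1 q (h8.ge hq).1] at e
  rw [s1 p (h8.ge hp).1 b bC] at e1
  rw [s1 q (h8.ge hq).1 b bC] at e2
  have k4 : ∀ p0 p1 q0 q1 b0 b1 : ZMod 3, ¬ p0 * q1 - p1 * q0 = 0 → p0 * b1 - p1 * b0 = 0 → q0 * b1 - q1 * b0 = 0 →
      b0 = 0 ∧ b1 = 0 := by decide +kernel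
  obtain ⟨e3, e4⟩ := k4 _ _ _ _ _ _ e e1 e2
  refine ⟨hb.2.1, e3, fun j => ?_⟩
  by_cases hj : j = i
  · rwa [hj]
  · exact bC.2 j hj

end FB

open Cfsg.Agent.E3.FB in
theorem HF.exists_FJ {a y : G} (h : HF a) (hy : y ∈ Q3 a) (yz : ZE a y) (yn : y ∉ zpowers a) : Nonempty (FJ a) := by
  have pq : Pq a y := ⟨h, hy, yz, yn⟩
  obtain ⟨F0⟩ := pq.fa
  obtain ⟨F1, σ, x, -, s1⟩ := pq.exists_st F0
  obtain ⟨F0'⟩ := pq.fy
  obtain ⟨F', σ', x', -, s'⟩ := pq.symm.exists_st F0'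
  obtain ⟨t, c, k, t2, tn, ta, cD, hk, c0, c1, c2, cmt⟩ := exists_tc s1 s'
  obtain ⟨q, hq, hc⟩ := adj F1 (s1.an s' cD).1 (s1.an s' cD).2.1 one_ne_zero cmt
    fun d hd => s1.DD s' hd cD
  obtain ⟨F, e1, e2, e3, -, e4⟩ := F1.exists_cjQ hq
  have s := s1.congr e1 e2 e3
  have eD : Dg F1 = Dg F := by ext g; show _ ∧ _ ↔ _ ∧ _; rw [e1]
  rw [eD] at tn
  rw [← e3] at cmt
  simp only [← e4] at hc
  clear e1 e2 e3 e4 eD s1 hq
  obtain ⟨ca, cp, -⟩ := s.an s' cD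
  choose u uP vu ru using fun i => exists_P F i ![1, 0]
  choose v vP vv rv using fun i => exists_P F i ![0, 1]
  have uD : ∀ i, u i ∈ Dg F := fun i => ⟨(uP i).1, fun j => by
    rw [vu]
    by_cases hj : j = i
    · subst hj; simp
    · simp [hj]⟩
  have a3 : a ^ 3 = 1 := F.cube a (aQ F)
  have hvu : ∀ i, v i * u i * (v i)⁻¹ = u i * a⁻¹ := fun i => by
    have h1 := F.comm _ (vP i).1 _ (uP i).1
    rw [sf, Finset.sum_eq_single i (fun j _ hj => by simp [vu, vv, hj]) (by simp), vu, vv] at h1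
    have h2 : a ^ 2 = a⁻¹ := eq_inv_of_mul_eq_one_left (by rw [← pow_succ, a3])
    rw [← ci (a := u i) (qa (uP i).1).symm, ← h2, ← mul_inv_eq_iff_eq_mul, h1]
    simp only [Pi.single_eq_same, Matrix.cons_val_zero, Matrix.cons_val_one, mul_zero, mul_one, zero_sub]
    rfl
  have hJ : clos [a, c, u 0, u 1, u 2] = Dg F ⊔ Dg F' := by
    have hD : Dg F ≤ clos [a, c, u 0, u 1, u 2] := fun d hd => by
      refine mem_of_vec3 F (mem_clos (by simp)) hd.1 (uP 0).1 (uP 1).1 (uP 2).1 (mem_clos (by simp))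
        (mem_clos (by simp)) (mem_clos (by simp)) (F.vec d 0 0) (F.vec d 1 0) (F.vec d 2 0) ?_
      rw [vu, vu, vu]
      refine w6_ext (fun i => ?_) fun i => ?_ <;> fin_cases i <;> simp [hd.2]
    refine le_antisymm (clos_le.2 ?_) (sup_le hD ?_)
    · simp only [List.mem_cons, List.not_mem_nil, or_false, forall_eq_or_imp, forall_eq]
      exact ⟨mem_sup_left (aD F), mem_sup_right cD, mem_sup_left (uD 0), mem_sup_left (uD 1),
        mem_sup_left (uD 2)⟩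
    · rcases hk with rfl | rfl
      · exact s'.D_sup s cD (by rw [c0, c1, c2]; simp) hD (mem_clos (by simp))
      · exact s'.D_sup s (inv_mem cD) (by simp [F'.vec_inv cD.1, c0, c1, c2]) hD
          (inv_mem (mem_clos (by simp)))
  have c3 : c ^ 3 = 1 := F'.cube c cD.1
  refine ⟨⟨F, c, t, u, v, h, ca, c3, cp, cmt, hc, uP, vP, fun i => by simp [vu], fun i => by simp [vv], ru, rv,
    fun i => s.DD s' (uD i) cD, hvu, fun i => ?_, t2, hJ ▸ tn, ta, fun z hz zz => ?_, wc h F,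
    fun g hg => pq.sum0 F hg, fun z hz => pq.noT2 F hz,
    fun z hz zz zn i e => (⟨h, hz, zz, zn⟩ : Pq a z).eq1 F⟩⟩
  · have m1 : c⁻¹ * v i * c⁻¹⁻¹ ∈ Q3 a := cjQ (ci ca) (vP i).1
    have m2 : (u i)⁻¹ * a⁻¹ * v i ∈ F.P i :=
      mul_mem (mul_mem (inv_mem (uP i)) (inv_mem ⟨aQ F, fun j _ => by
        rw [vec_z F (mem_zpowers a)]; rfl⟩)) (vP i)
    have e := (F.r_inv i m2).unique (y₁ := c⁻¹ * v i * c⁻¹⁻¹) (y₂ := (u i)⁻¹ * a⁻¹ * v i) ⟨?_, ?_⟩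
      ⟨by simp, ?_⟩
    · calc _ = c * (c⁻¹ * v i * c⁻¹⁻¹) * (v i)⁻¹ := by group
        _ = _ := by rw [e]; group
    · rw [← F.vec_eq m1 m2.1, F.vec_mul _ (mul_mem (inv_mem (uP i).1) (inv_mem (aQ F))) _ (vP i).1,
        F.vec_mul _ (inv_mem (uP i).1) _ (inv_mem (aQ F)), F.vec_inv (uP i).1,
        vec_z F (inv_mem (mem_zpowers a))]
      funext j
      rw [act1 F (ci ca) (pm_inv1 F ca cp) (vP i).1, mt_inv1 F ca cp, cmt, tv_inv, tv_vec]
      simp only [Pi.add_apply, Pi.neg_apply, vu, vv]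
      by_cases hj : j = i
      · subst hj; simp
      · simp [hj]
    · have e1 : F.r i * c⁻¹ * (F.r i)⁻¹ = c⁻¹ := by
        rw [(Commute.inv_left (hc i)).symm.eq, mul_inv_cancel_right]
      calc _ = F.r i * c⁻¹ * (F.r i)⁻¹ * (F.r i * v i * (F.r i)⁻¹) * (F.r i * c⁻¹ * (F.r i)⁻¹)⁻¹ := by
            group
        _ = _ := by rw [e1, rv]; group
    · have e1 : F.r i * a⁻¹ * (F.r i)⁻¹ = a⁻¹ := by
        rw [(Commute.inv_right (ra F i)).eq, mul_inv_cancel_right]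
      have e2 : Commute (u i) a := qa (uP i).1
      have e3 : Commute (v i) a := qa (vP i).1
      have e4 : a⁻¹ * a⁻¹ = a := by
        rw [← mul_inv_rev, inv_eq_iff_mul_eq_one, ← pow_three', a3]
      calc _ = (F.r i * u i * (F.r i)⁻¹)⁻¹ * (F.r i * a⁻¹ * (F.r i)⁻¹) * (F.r i * v i * (F.r i)⁻¹) := by
            group
        _ = (v i)⁻¹ * (v i * u i * (v i)⁻¹) * (v i * a⁻¹ * (v i)⁻¹) := by rw [ru, e1, rv]; group
        _ = (v i)⁻¹ * (u i * (a⁻¹ * a⁻¹)) := by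
          rw [hvu, e3.inv_right.eq, mul_inv_cancel_right]; group
        _ = _ := by rw [e4, e2.eq]; group
  · obtain ⟨m, d, hd, rfl⟩ : ∃ (m : ZMod 3), ∃ d ∈ Dg F, z = c ^ m.val * d := by
      refine closure_induction (p := fun z _ => ∃ (m : ZMod 3), ∃ d ∈ Dg F, z = c ^ m.val * d)
        (fun g hg => ?_) ⟨0, 1, one_mem _, by simp⟩ ?_ ?_ hz
      · simp only [List.mem_cons, List.not_mem_nil, or_false, Set.mem_setOf_eq] at hg
        rcases hg with rfl | rfl | rfl | rfl | rfl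
        · exact ⟨0, _, aD F, by simp⟩
        · exact ⟨1, 1, one_mem _, by simp [ZMod.val_one]⟩
        · exact ⟨0, _, uD 0, by simp⟩
        · exact ⟨0, _, uD 1, by simp⟩
        · exact ⟨0, _, uD 2, by simp⟩
      · rintro _ _ - - ⟨m, d, hd, rfl⟩ ⟨n, e, he, rfl⟩
        refine ⟨m + n, d * e, mul_mem hd he, ?_⟩
        rw [pow_val_add c3, mul_assoc, ← mul_assoc d, ← s.DD s' hd (pow_mem cD _)]; group
      · rintro _ - ⟨m, d, hd, rfl⟩
        refine ⟨-m, d⁻¹, inv_mem hd, ?_⟩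
        rw [pow_val_neg c3, ← s.DD s' hd (pow_mem cD _) |>.symm, mul_inv_rev]
    obtain rfl | rfl | rfl := (by decide : ∀ m : ZMod 3, m = 0 ∨ m = 1 ∨ m = 2) m
    · exact .inl (by simpa using hd.1)
    · obtain ⟨q, hq, e⟩ := ze_aux s s' cD hk c0 c1 cmt hd (by simpa [ZMod.val_one] using zz)
      exact .inr ⟨q, hq, .inl (by simpa [ZMod.val_one] using e)⟩
    · have e0 : (c ^ 2 * d)⁻¹ = c * d⁻¹ := by
        rw [s.DD s' hd (pow_mem cD _), mul_inv_rev, inv_eq_of_mul_eq_one_right (a := c ^ 2) (b := c)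
          (by rw [← pow_succ, c3])]
      obtain ⟨q, hq, e⟩ := ze_aux s s' cD hk c0 c1 cmt (inv_mem hd) (e0 ▸ ze_inv zz)
      refine .inr ⟨q, hq, .inr ?_⟩
      rw [← e0] at e
      show q * (c ^ 2 * d) * q⁻¹ = _
      exact (show _ = (q * (c ^ 2 * d)⁻¹ * q⁻¹)⁻¹ by group).trans (congrArg Inv.inv e)

end Cfsg.Agent.E3
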