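import Mathlib
import Cfsg.Agent.E3.Bas2
import Cfsg.Agent.T3.CoA
import Cfsg.Agent.LX.Defs

/-!
The subgroups `K = C(r₀)`, `L = C(u₀) ∩ C(r₀)`, `Σ` and `M = N(Σ)` (see `stubs/Cfsg/Agent/E3/PLAN.md`).
-/

set_option autoImplicit false
set_option linter.unusedSectionVars false

namespace Cfsg.Agent.E3

open Cfsg.Agent.Spor Cfsg.Agent.Rec Cfsg.Agent.Inv.Fz Cfsg.Agent.GT.PG Cfsg.Agent.T16 Subgroup
open Cfsg.Agent.T3 hiding F3 HF FJ
open Cfsg.Agent.T3.F3 (b_cmul b_cinv b_ccj b_norm b_cjQ b_Qc)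

universe u

variable {G : Type u} [Group G] [Finite G] {a : G}

/-- The `i`-th quaternion factor of `R`. -/
def F3.Rf (F : F3 a) (i : Fin 3) : Subgroup G where
  carrier := {ρ | ρ ∈ F.R ∧ ∀ j, j ≠ i → F.mt ρ j = 1}
  one_mem' := ⟨one_mem _, fun j _ => F.b_mtQ (one_mem _) j⟩
  mul_mem' := fun {p q} hp hq => ⟨mul_mem hp.1 hq.1, fun j hj => by
    rw [F.b_mt_mul (F.b_Rc hp.1) (F.b_Rc hq.1) (F.pm_R hq.1).1, hp.2 j hj, hq.2 j hj, mul_one]⟩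
  inv_mem' := fun {p} hp => ⟨inv_mem hp.1, fun j hj => by
    rw [F.b_mt_inv (F.b_Rc hp.1) (F.pm_R hp.1).1, hp.2 j hj, inv_one]⟩

theorem F3.mem_Rf (F : F3 a) {i : Fin 3} {ρ : G} : ρ ∈ F.Rf i ↔ ρ ∈ F.R ∧ ∀ j, j ≠ i → F.mt ρ j = 1 := Iff.rfl

theorem F3.r_Rf (F : F3 a) (i : Fin 3) : F.r i ∈ F.Rf i := ⟨F.r_mem i, fun j hj => by rw [F.r_mt, if_neg hj]⟩

theorem F3.perm_Rf (F : F3 a) (π : Equiv.Perm (Fin 3)) (i : Fin 3) : (F.perm π).Rf i = F.Rf (π i) := by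
  ext q
  refine and_congr_right fun _ => ⟨fun h j hj => ?_, fun h j hj => h _ fun e => hj (π.injective e)⟩
  have := h (π⁻¹ j) fun e => hj (by simp [← e])
  simpa [F3.perm] using this

theorem F3.P_comm (F : F3 a) {i j : Fin 3} (h : i ≠ j) {p q : G} (hp : p ∈ F.P i) (hq : q ∈ F.P j) :
    p * q = q * p := by
  refine (F.commute_iff hp.1 hq.1).2 (Finset.sum_eq_zero fun k _ => ?_)
  by_cases hk : k = i
  · simp [hq.2 k (hk ▸ h)]
  · simp [hp.2 k hk]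

namespace FJ

variable (s : FJ a)

/-- The centraliser to be determined. -/
abbrev K : Subgroup G := centralizer {s.r 0}
/-- A group with socle `U₆(2)`. -/
abbrev L : Subgroup G := centralizer {s.u 0} ⊓ centralizer {s.r 0}
/-- Elementary abelian of order 81. -/
abbrev J0 : Subgroup G := clos [a, s.c, s.u 1, s.u 2]
/-- Elementary abelian of order 27. -/
abbrev D0 : Subgroup G := clos [a, s.u 1, s.u 2]
/-- Elementary abelian of order 81 or 243. -/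
abbrev JJ : Subgroup G := s.L ⊓ centralizer (s.J0 : Set G)
/-- A Sylow 3-subgroup of `K`. -/
abbrev S : Subgroup G := s.P 1 ⊔ s.P 2 ⊔ s.JJ
/-- The quaternion group attached to a conjugate `y` of `a^±` in `K`. -/
def RR (y : G) : Subgroup G := pCoreOf 2 (s.K ⊓ centralizer {y})
/-- The extraspecial group of order `2^21`. -/
def Sg : Subgroup G := ⨆ y : {y // y ∈ s.J0 ∧ ZE a y}, s.RR y
/-- Its normaliser. -/
abbrev M : Subgroup G := normalizer (s.Sg : Set G)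
/-- The third class of elements of order three in `U₆(2)`. -/
abbrev w : G := s.u 1 * s.u 2
/-- Coordinates on `J₀`. -/
def j (x : Co.V4) : G := a ^ x.1.val * s.c ^ x.2.1.val * s.u 1 ^ x.2.2.1.val * s.u 2 ^ x.2.2.2.val

theorem P_L {i : Fin 3} (h : i ≠ 0) : s.P i ≤ s.L := fun _ hp =>
  ⟨mem_cen.2 (s.P_comm h hp (s.uP 0)), mem_cen.2 (s.r_P h hp).symm⟩

theorem Rf_P {i j : Fin 3} (h : j ≠ i) {ρ p : G} (hρ : ρ ∈ s.Rf i) (hp : p ∈ s.P j) : ρ * p = p * ρ := by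
  have h4 : ρ ^ 4 = 1 := s.R_inj (pow_mem hρ.1 4) fun k => by
    have c := s.b_Rc hρ.1
    have e := (s.pm_R hρ.1).1
    rw [← (s.pm_R hρ.1).2 k, pow_succ, pow_three', s.b_mt_mul (b_cmul (b_cmul c c) c) c e,
      s.b_mt_mul (b_cmul c c) c e, s.b_mt_mul c c e, pow_succ, pow_three']
  refine comm_of_four s.esz h4 (s.b_Rc hρ.1) ?_
  rw [← s.vec_eq (b_cjQ (s.b_Rc hρ.1) hp.1) hp.1]
  funext k
  have := s.act ρ (s.b_Rc hρ.1) p hp.1 k
  rw [(s.pm_R hρ.1).1, Equiv.Perm.one_apply] at this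
  rw [this]
  by_cases e : k = j
  · rw [hρ.2 k (e ▸ h)]; simp
  · rw [hp.2 k e]; simp

theorem Rf_L {i : Fin 3} (h : i ≠ 0) : s.Rf i ≤ s.L := fun _ hρ =>
  ⟨mem_cen.2 (s.Rf_P h.symm hρ (s.uP 0)), mem_cen.2 (s.r_comm 0 hρ.1).symm⟩

theorem a_L : a ∈ s.L := s.P_L (i := 1) (by decide) (s.b_zP 1 (mem_zpowers a))
theorem c_L : s.c ∈ s.L := ⟨mem_cen.2 (s.cu 0), mem_cen.2 (s.cr 0)⟩
theorem r1_L : s.r 1 ∈ s.L := s.Rf_L (by decide) (s.r_Rf 1)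
theorem r2_L : s.r 2 ∈ s.L := s.Rf_L (by decide) (s.r_Rf 2)
theorem L_K : s.L ≤ s.K := inf_le_right

theorem J0_L : s.J0 ≤ s.L := clos_le.2 (by
  simp only [List.forall_mem_cons, List.not_mem_nil, false_imp_iff, implies_true, and_true]
  exact ⟨s.a_L, s.c_L, s.P_L (by decide) (s.uP 1), s.P_L (by decide) (s.uP 2)⟩)

theorem D0_J0 : s.D0 ≤ s.J0 := clos_le.2 (by
  simp only [List.forall_mem_cons, List.not_mem_nil, false_imp_iff, implies_true, and_true]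
  exact ⟨mem_clos (by simp), mem_clos (by simp), mem_clos (by simp)⟩)

theorem S_L : s.S ≤ s.L := sup_le (sup_le (s.P_L (by decide)) (s.P_L (by decide))) inf_le_left

/-- The socle of `L`. -/
def N0 : Subgroup G := (normalClosure {(⟨s.r 1, s.r1_L⟩ : s.L)}).map s.L.subtype

theorem RR_le {y : G} (h : y ∈ s.J0) (hz : ZE a y) : s.RR y ≤ s.Sg :=
  le_iSup (fun y : {y // y ∈ s.J0 ∧ ZE a y} => s.RR y) ⟨y, h, hz⟩

theorem Sg_le {X : Subgroup G} (h : ∀ y ∈ s.J0, ZE a y → s.RR y ≤ X) : s.Sg ≤ X := iSup_le fun y => h y y.2.1 y.2.2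

theorem RR_cj {g : G} (hg : g ∈ s.K) (y : G) : s.RR (g * y * g⁻¹) = cj g (s.RR y) := by
  rw [RR, RR, ← cj_centralizer_singleton, ← cj_def g (pCoreOf _ _),
    GT.map_pCoreOf_of_injective _ (MulAut.conj g).injective, cj_def, cj_inf, cj_eq_of_mem hg]

theorem RR_inv (y : G) : s.RR y⁻¹ = s.RR y := by rw [RR, RR, cent_inv]

theorem Sg_K : s.Sg ≤ s.K := s.Sg_le fun _ _ _ => (GT.pCoreOf_le _).trans inf_le_left

theorem norm_J0_le : s.K ⊓ normalizer (s.J0 : Set G) ≤ s.M := fun g hg => cj_eq_iff.1 (cj_eq_of_le (by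
  refine map_le_iff_le_comap.2 (s.Sg_le fun y hy hz => map_le_iff_le_comap.1 ?_)
  exact (s.RR_cj hg.1 y).ge.trans (s.RR_le (conj_mem_of_mem_norm hg.2 hy) (Co.ze_cj hz g))))

end FJ

/-- The letters of the group `L` of type `U₆(2)`. -/
structure UL (s : FJ a) (t : U6 s.L) (n : s.L) : Prop where
  a : (t.a : G) = a
  c : (t.c : G) = s.c
  u1 : (t.u1 : G) = s.u 1
  u2 : (t.u2 : G) = s.u 2
  v1 : (t.f1.v : G) = s.v 1
  v2 : (t.f2.v : G) = s.v 2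
  r1 : (t.f1.t : G) = s.r 1
  r2 : (t.f2.t : G) = s.r 2
  P1 : t.f1.R.map s.L.subtype = s.P 1
  P2 : t.f2.R.map s.L.subtype = s.P 2
  R1 : (t.f1.Q1 t.q1).map s.L.subtype = s.Rf 1
  R2 : (t.f2.Q1 t.q2).map s.L.subtype = s.Rf 2
  perm : t.Perm
  cu : t.Cu n
  kM : t.K ≤ t.M n
  u6 : LX.U6 t.r
  dec : ∃ (N : Subgroup s.L) (D : Dec t.a N), D.Perm

end Cfsg.Agent.E3
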