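import Mathlib
import Cfsg.Agent.E3.UDefs
import Cfsg.Agent.T3.FC

/-!
Elementary facts on the letters `FJ`.
-/

set_option autoImplicit false
set_option linter.unusedSectionVars false

namespace Cfsg.Agent.E3

open Cfsg.Agent.Spor Cfsg.Agent.Rec Cfsg.Agent.Inv.Fz Cfsg.Agent.GT.PG Subgroup
open Cfsg.Agent.T3 hiding F3 HF FJ
open Cfsg.Agent.T3.FC

universe u

variable {G : Type u} [Group G] [Finite G]

namespace F3

variable {a : G} (F : F3 a)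

omit F in
theorem fc_Qa {q : G} (hq : q ∈ Q3 a) : q * a = a * q := mem_cen.1 (Co.Q3_le a hq)

theorem fc_ra (i : Fin 3) : F.r i * a = a * F.r i := mem_cen.1 (F.R_le (F.r_mem i))

theorem fc_pr (i : Fin 3) : F.pm (F.r i) = 1 := (F.pm_R (F.r_mem i)).1

theorem fc_a1 (F : F3 a) : a ≠ 1 := F.esz.z_ne_one

theorem fc_aa (F : F3 a) : a * a ≠ 1 := fun e => F.fc_a1 (by rw [inv3 F.esz.z_pow] at e; simpa using e)

theorem fc_conj {g k : G} (hg : g * a = a * g) (hk : k * a = a * k) (pk : F.pm k = 1) :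
    F.pm (g * k * g⁻¹) = 1 ∧ ∀ j, F.mt (g * k * g⁻¹) (F.pm g j) = F.mt g j * F.mt k j * (F.mt g j)⁻¹ := by
  refine ⟨?_, fun j => ?_⟩
  · rw [F.pm_mul _ _ (cmul hg hk) (cinv hg), F.pm_mul _ _ hg hk, pk, F.pm_inv hg, mul_one, mul_inv_cancel]
  · rw [F.mt_mul _ _ (cmul hg hk) (cinv hg), F.mt_inv hg, F.pm_inv hg, F.mt_mul _ _ hg hk, pk]
    simp

/-- A 3-element fixing one of the factors fixes all of them. -/
theorem fc_pm3 {X : Subgroup G} (hX : IsPGroup 3 X) {g : G} (hg : g ∈ X) (ha : g * a = a * g) {i : Fin 3}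
    (h : F.pm g i = i) : F.pm g = 1 := by
  let φ : centralizer ({a} : Set G) →* Equiv.Perm (Fin 3) :=
    MonoidHom.mk' (fun x => F.pm x) fun x y => F.pm_mul _ _ (mem_cen.1 x.2) (mem_cen.1 y.2)
  obtain ⟨k, hk⟩ := hX ⟨g, hg⟩
  have h1 : (⟨g, mem_cen.2 ha⟩ : centralizer ({a} : Set G)) ^ 3 ^ k = 1 := Subtype.ext (by simpa using congrArg Subtype.val hk)
  have h2 : F.pm g ^ 3 ^ k = 1 := by
    have := map_pow φ ⟨g, mem_cen.2 ha⟩ (3 ^ k)
    rw [h1, map_one] at this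
    exact this.symm
  exact Co.eq_one_of_cop (perm_fix _ i h) h2 (Nat.Coprime.pow_right k (by norm_num))

theorem fc_vec0 {t q : G} (ht : t * a = a * t) (pt : F.pm t = 1) {i : Fin 3} (mt : F.mt t i = -1) (hq : q ∈ Q3 a)
    (h : t * q = q * t) : F.vec q i = 0 := by
  have := F.act t ht q hq i
  rw [fix h, pt, mt] at this
  exact neg_fix _ this

theorem fc_PP {i j : Fin 3} (h : i ≠ j) {p q : G} (hp : p ∈ F.P i) (hq : q ∈ F.P j) : p * q = q * p := by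
  refine (F.commute_iff hp.1 hq.1).2 (Finset.sum_eq_zero fun k _ => ?_)
  by_cases e : k = i
  · rw [hq.2 k (e ▸ h)]; simp
  · rw [hp.2 k e]; simp

theorem fc_zP (i : Fin 3) : zpowers a ≤ F.P i := fun z hz =>
  ⟨F.esz.zpowers_le hz, fun j _ => by rw [(F.vec_eq_zero z (F.esz.zpowers_le hz)).2 hz]; rfl⟩

theorem fc_z {i : Fin 3} {p : G} (hp : p ∈ F.P i) (h : F.vec p i = 0) : p ∈ zpowers a :=
  (F.vec_eq_zero p hp.1).1 (funext fun j => by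
    by_cases e : j = i
    exacts [e ▸ h, hp.2 j e])

theorem fc_normP {g : G} (hg : g * a = a * g) (pg : F.pm g = 1) (i : Fin 3) : g ∈ normalizer (F.P i : Set G) :=
  mem_normalizer_of_conj_mem fun p hp => ⟨conj_mem_of_mem_norm (norm_Q3 hg) hp.1, fun j hj => by
    have := F.act g hg p hp.1 j
    rw [pg, hp.2 j hj, Matrix.mulVec_zero] at this
    exact this⟩

theorem fc_dec12 {q : G} (hq : q ∈ F.P 1 ⊔ F.P 2) : ∃ p ∈ F.P 1, ∃ p' ∈ F.P 2, q = p * p' :=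
  (mem_sup_iff_of_le_normalizer fun _ hp => Co.norm_of_comm fun _ hp' => F.fc_PP (by decide) hp hp').1 hq

theorem fc_mem12 {q : G} : q ∈ F.P 1 ⊔ F.P 2 ↔ q ∈ Q3 a ∧ F.vec q 0 = 0 := by
  constructor
  · intro hq
    obtain ⟨p, hp, p', hp', rfl⟩ := F.fc_dec12 hq
    exact ⟨mul_mem hp.1 hp'.1, by
      rw [F.vec_mul p hp.1 p' hp'.1, Pi.add_apply, hp.2 0 (by decide), hp'.2 0 (by decide), add_zero]⟩
  · rintro ⟨hq, h⟩
    obtain ⟨p, hp, rfl⟩ := F.dec hq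
    rw [F.vec_mul _ (mul_mem (hp 0).1 (hp 1).1) _ (hp 2).1, F.vec_mul _ (hp 0).1 _ (hp 1).1, Pi.add_apply, Pi.add_apply,
      (hp 1).2 0 (by decide), (hp 2).2 0 (by decide), add_zero, add_zero] at h
    exact mul_mem (mem_sup_left (mul_mem (F.fc_zP 1 (F.fc_z (hp 0) h)) (hp 1))) (mem_sup_right (hp 2))

theorem fc_12K : F.P 1 ⊔ F.P 2 ≤ centralizer {F.r 0} :=
  sup_le (fun _ hp => mem_cen.2 (F.r_P (by decide) hp).symm) fun _ hp => mem_cen.2 (F.r_P (by decide) hp).symm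

theorem fc_QK {q : G} (hq : q ∈ Q3 a) (h : q ∈ centralizer {F.r 0}) : q ∈ F.P 1 ⊔ F.P 2 :=
  F.fc_mem12.2 ⟨hq, F.fc_vec0 (F.fc_ra 0) (F.fc_pr 0) (by rw [F.r_mt]; rfl) hq (mem_cen.1 h).symm⟩

theorem fc_card12 : Nat.card (F.P 1 ⊔ F.P 2 : Subgroup G) = 3 ^ 5 := by
  have h := Loc.card_sup_mul_card_inf_of_le_normalizer (H := F.P 1) (K := F.P 2)
    fun _ hp => Co.norm_of_comm fun _ hp' => F.fc_PP (by decide) hp hp'
  have e : F.P 1 ⊓ F.P 2 = zpowers a :=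
    le_antisymm (fun p hp => F.fc_z hp.1 (hp.2.2 1 (by decide))) (le_inf (F.fc_zP 1) (F.fc_zP 2))
  rw [e, F.esz.card_zpowers, F.card_P, F.card_P] at h
  omega

/-- The permutation of an element commuting with `t` preserves the signs of `t`. -/
theorem fc_sign {g t : G} (hg : g * a = a * g) (ht : t * a = a * t) (pt : F.pm t = 1) (h : g * t = t * g) (j : Fin 3) :
    F.mt t (F.pm g j) = F.mt g j * F.mt t j * (F.mt g j)⁻¹ := by
  have := (F.fc_conj hg ht pt).2 j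
  rwa [fix h] at this

/-- An element of `Q` commuting with `c` does not change the cube. -/
theorem fc_cube (F : F3 a) {c d w : G} (hc : c * a = a * c) (hd : d ∈ Q3 a) (hw : w ∈ Q3 a) (h : c * d = d * c) :
    (d * (w * c)) ^ 3 = (w * c) ^ 3 := by
  have hz : w * d * w⁻¹ * d⁻¹ ∈ zpowers a := F.esz.comm_mem w hw d hd
  set z := w * d * w⁻¹ * d⁻¹ with hzd
  have e1 : w * c * d * (w * c)⁻¹ = z * d := by rw [hzd, mul_assoc w, h]; group
  have e2 : w * c * z * (w * c)⁻¹ = z := fix (Co.comm_zpowers (cmul (fc_Qa hw) hc) z hz)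
  have e3 : d * z = z * d := Co.comm_zpowers (fc_Qa hd) z hz
  have e4 : z ^ 3 = 1 := F.esz.pow_eq_one_of_mem_zpowers hz
  have e5 := F.cube d hd
  rw [FC.cube, e1, cmul', e1, e2, mul_eq_right]
  calc _ = d * z * d * z * z * d := by group
    _ = z * z * z * (d * d * d) := by simp only [mul_assoc, e3, NE.comm_assoc e3]
    _ = 1 := by
      rw [pow_three'] at e4 e5
      rw [e4, e5, mul_one]

end F3

namespace FJ

variable {a : G} (s : FJ a)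

theorem fc_uv (i : Fin 3) : s.v i * s.u i ≠ s.u i * s.v i := fun e => by
  have := s.vu i
  rw [fix e] at this
  exact s.fc_a1 (by simpa using this)

theorem fc_cv (i : Fin 3) : s.c * s.v i * s.c⁻¹ = a * s.u i * s.v i := by
  have h := s.vc i
  have h1 := s.cu i
  calc _ = a * s.u i * (s.u i)⁻¹ * a⁻¹ * s.c * s.v i * s.c⁻¹ := by group
    _ = a * s.u i * (s.c * (s.u i)⁻¹ * a⁻¹) * s.v i * s.c⁻¹ := by
      rw [mul_assoc _ a⁻¹, (cinv s.ca.symm), ← (cinv h1.symm)]; group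
    _ = _ := by rw [← h]; group

theorem fc_vc' (i : Fin 3) : (s.v i)⁻¹ * s.c * s.v i = s.c * s.u i * a⁻¹ := by
  have h : s.v i * (s.c * s.u i * a⁻¹) * (s.v i)⁻¹ = s.c := by
    rw [cmul', cmul', s.vc, s.vu, fix (cinv (F3.fc_Qa (s.vP i).1).symm).symm]
    have h1 := cinv (F3.fc_Qa (s.uP i).1).symm
    calc _ = s.c * ((s.u i)⁻¹ * (a⁻¹ * s.u i)) * a⁻¹ * a⁻¹ := by group
      _ = s.c * (a ^ 3)⁻¹ := by rw [h1]; group
      _ = _ := by rw [s.esz.z_pow]; group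
  simpa using flip h

/-- No element of `Q c` commutes with `v i`. -/
theorem fc_nc {q : G} (hq : q ∈ Q3 a) (i : Fin 3) : q * s.c * s.v i ≠ s.v i * (q * s.c) := fun e => by
  have h1 : q * (a * s.u i * s.v i) * q⁻¹ = s.v i := by
    rw [← s.fc_cv]
    exact Eq.trans (by group) (fix e)
  have hu := (s.uP i).1
  have hv := (s.vP i).1
  have hz : q * (s.u i * s.v i) * q⁻¹ * (s.u i * s.v i)⁻¹ ∈ zpowers a := s.esz.comm_mem q hq _ (mul_mem hu hv)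
  have h2 : s.u i ∈ zpowers a := by
    have h3 : q * (s.u i * s.v i) * q⁻¹ = a⁻¹ * s.v i := by
      rw [mul_assoc a, cmul' q a, fix (F3.fc_Qa hq)] at h1
      exact eq_inv_mul_of_mul_eq h1
    rw [h3] at hz
    simpa using mul_mem (mem_zpowers a) hz
  exact s.fc_uv i (Co.comm_zpowers (F3.fc_Qa hv) _ h2)

theorem fc_cQ : s.c ∉ Q3 a := fun h => s.fc_nc (inv_mem h) 0 (by simp)

theorem fc_c1 : s.c ≠ 1 := fun e => s.fc_cQ (e ▸ one_mem _)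

theorem fc_J {y : G} (hy : y ∈ s.J) : ∃ z ∈ zpowers s.c, ∃ d ∈ Q3 a, d * s.c = s.c * d ∧ y = z * d := by
  have h : s.J ≤ zpowers s.c ⊔ Q3 a ⊓ centralizer {s.c} := clos_le.2 (by
    simp only [List.forall_mem_cons, List.not_mem_nil, false_imp_iff, implies_true, and_true]
    have k : ∀ i, s.u i ∈ zpowers s.c ⊔ Q3 a ⊓ centralizer {s.c} := fun i =>
      mem_sup_right ⟨(s.uP i).1, mem_cen.2 (s.cu i).symm⟩
    exact ⟨mem_sup_right ⟨s.esz.z_mem, mem_cen.2 s.ca.symm⟩, mem_sup_left (mem_zpowers _), k 0, k 1, k 2⟩)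
  obtain ⟨z, hz, d, hd, e⟩ := (mem_sup_iff_of_le_normalizer (zpowers_le.2 (Co.norm_of_comm fun d hd =>
    (mem_cen.1 (mem_inf.1 hd).2).symm))).1 (h hy)
  exact ⟨z, hz, d, hd.1, mem_cen.1 hd.2, e⟩

/-- An element of `L` conjugating `a` to `c^±`. -/
theorem exists_h (s : FJ a) : (∀ i, s.u i ∈ Q3 s.c) ∧ a ∉ Q3 s.c ∧
    ∃ h ∈ s.L, h * a * h⁻¹ = s.c ∨ h * a * h⁻¹ = s.c⁻¹ := by
  have ti : s.t⁻¹ = s.t := inv_eq_of_mul_eq_one_right s.t2
  have tt : ∀ x, s.t * (s.t * x * s.t⁻¹) * s.t⁻¹ = x := fun x => by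
    calc _ = s.t * s.t * x * (s.t * s.t)⁻¹ := by group
      _ = x := by rw [s.t2]; group
  have hQ : cj s.t (Q3 a) = Q3 s.c := by
    rw [← Q3_cj]
    rcases s.ta with e | e <;> rw [e]
    exact Co.Q3_inv _
  have mQ : ∀ x, x ∈ Q3 s.c ↔ s.t * x * s.t⁻¹ ∈ Q3 a := fun x => by rw [← hQ, mem_cj, ti]
  have tc : s.t * s.c * s.t⁻¹ = a ∨ s.t * s.c * s.t⁻¹ = a⁻¹ := by
    rcases s.ta with e | e
    · exact .inl (by rw [← e, tt])
    · exact .inr (by rw [← inv_inv s.c, ← e, ← tt a⁻¹]; group)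
  have aQ : a ∉ Q3 s.c := fun h => by
    rw [mQ] at h
    rcases s.ta with e | e <;> rw [e] at h
    exacts [s.fc_cQ h, s.fc_cQ (by simpa using h)]
  have cQ : s.c ∈ Q3 s.c := by
    rw [mQ]
    rcases tc with e | e <;> rw [e]
    exacts [s.esz.z_mem, inv_mem s.esz.z_mem]
  have zc : ZE a s.c := by
    rcases s.ta with e | e
    · exact e ▸ Co.ze_cj (Co.ze_self a) _
    · exact inv_inv s.c ▸ Co.ze_inv (e ▸ Co.ze_cj (Co.ze_self a) _)
  obtain ⟨F'⟩ := s.hf _ zc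
  have uQ : ∀ i, s.u i ∈ Q3 s.c := fun i => by
    obtain ⟨z, hz, d, hd, -, e⟩ := s.fc_J (conj_mem_of_mem_norm s.tJ (mem_clos (x := s.u i) (by fin_cases i <;> simp)))
    have z1 : s.t * z * s.t⁻¹ ∈ zpowers a := by
      refine mem_cj.1 ((show zpowers s.c ≤ cj s.t⁻¹ (zpowers a) from zpowers_le.2 (mem_cj.2 ?_)) hz) |> fun h => by
        simpa using h
      rw [inv_inv]
      rcases tc with e | e <;> rw [e]
      exacts [mem_zpowers a, inv_mem (mem_zpowers a)]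
    have d1 : s.t * d * s.t⁻¹ ∈ Q3 s.c := (mQ _).2 (by rwa [tt])
    have e1 : s.u i = s.t * z * s.t⁻¹ * (s.t * d * s.t⁻¹) := by rw [← cmul', ← e, tt]
    generalize s.t * z * s.t⁻¹ = z' at z1 e1
    generalize s.t * d * s.t⁻¹ = d' at d1 e1
    have d2 := mul_mem d1 (conj_mem_of_mem_norm (norm_Q3 (s.cr i).symm) d1)
    have e2 : d' = z'⁻¹ * s.u i := by rw [e1, inv_mul_cancel_left]
    have c1 := Co.comm_zpowers (F3.fc_Qa (s.uP i).1) _ (inv_mem z1)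
    rw [e2, cmul', s.ru, fix (Co.comm_zpowers (s.fc_ra i) _ (inv_mem z1)), mul_assoc, ← mul_assoc (s.u i), c1,
      mul_inv_cancel_right] at d2
    rcases T16.mem_zpowers_three s.esz.z_pow z1 with rfl | rfl | rfl
    · rwa [e1, one_mul]
    · rw [← mul_inv_rev, inv3 s.esz.z_pow, inv_inv] at d2; exact absurd d2 aQ
    · rw [inv_inv, inv3 s.esz.z_pow, inv_mem_iff] at d2; exact absurd d2 aQ
  refine ⟨uQ, aQ, ?_⟩
  have jm : a ∈ s.J ∧ s.c ∈ s.J ∧ s.u 1 ∈ s.J := ⟨mem_clos (by simp), mem_clos (by simp), mem_clos (by simp)⟩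
  obtain ⟨w, hw, hJ, hn⟩ : ∃ w ∈ s.toF3.P 1, w * s.c * w⁻¹ ∈ s.J ∧ w * s.c * w⁻¹ ∉ Q3 s.c := by
    by_cases e : s.v 1 * s.c * (s.v 1)⁻¹ ∈ Q3 s.c
    · refine ⟨(s.v 1)⁻¹, inv_mem (s.vP 1), ?_, fun e' => aQ ?_⟩
      · rw [inv_inv, s.fc_vc']; exact mul_mem (mul_mem jm.2.1 jm.2.2) (inv_mem jm.1)
      · rw [inv_inv, s.fc_vc'] at e'
        rw [s.vc] at e
        have h1 := mul_mem (mul_mem (inv_mem cQ) e) (mul_mem (inv_mem cQ) e')
        have h2 := cinv (F3.fc_Qa (s.uP 1).1).symm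
        have h3 : s.c⁻¹ * (s.c * (s.u 1)⁻¹ * a⁻¹) * (s.c⁻¹ * (s.c * s.u 1 * a⁻¹)) = a := by
          calc _ = (s.u 1)⁻¹ * (a⁻¹ * s.u 1) * a⁻¹ := by group
            _ = (a * a)⁻¹ := by rw [h2]; group
            _ = a := by rw [inv3 s.esz.z_pow, inv_inv]
        rwa [h3] at h1
    · refine ⟨s.v 1, s.vP 1, ?_, e⟩
      rw [s.vc]; exact mul_mem (mul_mem jm.2.1 (inv_mem jm.2.2)) (inv_mem jm.1)
  set c' := w * s.c * w⁻¹ with hc'
  have rc : s.r 0 * c' = c' * s.r 0 :=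
    (mem_cen.1 (mul_mem (mul_mem (s.fc_12K (mem_sup_left hw)) (mem_cen.2 (s.cr 0))) (inv_mem (s.fc_12K (mem_sup_left hw))))).symm
  have ac : c' * a = a * c' := cmul (cmul (F3.fc_Qa hw.1) s.ca) (cinv (F3.fc_Qa hw.1))
  have nQ : c' ∉ Q3 a := fun h => s.fc_cQ (by simpa [hc', mul_assoc] using mul_mem (mul_mem (inv_mem hw.1) h) hw.1)
  obtain ⟨q, hq, e⟩ := (s.ze _ (conj_mem_of_mem_norm s.tJ hJ) (Co.ze_cj (Co.ze_cj zc w) _)).resolve_left
    fun h => hn ((mQ _).2 h)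
  obtain ⟨y, hy, h0, hh0, e0⟩ : ∃ y, (y = c' ∨ y = c'⁻¹) ∧ ∃ h0 ∈ Q3 s.c, h0 * a * h0⁻¹ = y := by
    have h1 : (s.t * q * s.t⁻¹)⁻¹ ∈ Q3 s.c := inv_mem ((mQ _).2 (by rw [tt]; exact hq))
    have h2 : s.t * (q * (s.t * c' * s.t⁻¹) * q⁻¹) * s.t⁻¹ = s.t * q * s.t⁻¹ * c' * (s.t * q * s.t⁻¹)⁻¹ := by
      rw [cmul', cmul', tt]; group
    have h3 : s.t * q * s.t⁻¹ * c' * (s.t * q * s.t⁻¹)⁻¹ = a ∨ s.t * q * s.t⁻¹ * c' * (s.t * q * s.t⁻¹)⁻¹ = a⁻¹ := by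
      rw [← h2]
      rcases e with e | e <;> rw [e]
      · exact tc
      · rcases tc with k | k
        · exact .inr (cjinv k)
        · exact .inl (cjinv' k)
    refine ⟨_, ?_, _, h1, rfl⟩
    rcases h3 with k | k
    · exact .inl (flip k)
    · exact .inr (flip (cjinv' k))
  have ry : s.r 0 * y * (s.r 0)⁻¹ = y := by
    rcases hy with k | k <;> rw [k]
    exacts [fix rc, fix (cinv rc.symm).symm]
  have r2 : ∀ x, s.r 0 * (s.r 0 * x * (s.r 0)⁻¹) * (s.r 0)⁻¹ = x := fun x => by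
    calc _ = s.r 0 * s.r 0 * x * (s.r 0 * s.r 0)⁻¹ := by group
      _ = x := by rw [s.r2]; group
  set h1 := s.r 0 * h0 * (s.r 0)⁻¹ with hh1
  have m1 : h1 ∈ Q3 s.c := conj_mem_of_mem_norm (norm_Q3 (s.cr 0).symm) hh0
  have e1 : h1 * a * h1⁻¹ = y := by
    rw [← ry, ← e0, cmul', cmul', fix (s.fc_ra 0), hh1]; group
  have d3 : (h0⁻¹ * h1) ^ 3 = 1 := by
    have := s.cube _ ((mQ _).1 (mul_mem (inv_mem hh0) m1))
    rwa [conj_pow, conj_eq_one] at this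
  have da : h0⁻¹ * h1 * a = a * (h0⁻¹ * h1) := by
    calc _ = h0⁻¹ * (h1 * a * h1⁻¹) * h1 := by group
      _ = _ := by rw [e1, ← e0]; group
  have e2 : h0 * (h0⁻¹ * h1)⁻¹ * a * (h0 * (h0⁻¹ * h1)⁻¹)⁻¹ = y := by
    rw [mul_assoc h0, cinv da, ← e0]; group
  have hr : h0 * (h0⁻¹ * h1)⁻¹ * s.r 0 = s.r 0 * (h0 * (h0⁻¹ * h1)⁻¹) := by
    have h2 : s.r 0 * (h0 * (h0⁻¹ * h1)⁻¹) * (s.r 0)⁻¹ = h0 * ((h0⁻¹ * h1) * (h0⁻¹ * h1)) := by
      calc _ = h1 * (s.r 0 * h1 * (s.r 0)⁻¹)⁻¹ * h1 := by rw [hh1]; group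
        _ = _ := by rw [hh1, r2]; group
    rw [inv3 d3] at h2
    calc _ = s.r 0 * (h0 * (h0⁻¹ * h1)⁻¹) * (s.r 0)⁻¹ * s.r 0 := by rw [h2]
      _ = _ := by group
  have hm : h0 * (h0⁻¹ * h1)⁻¹ ∈ Q3 s.c := mul_mem hh0 (inv_mem (mul_mem (inv_mem hh0) m1))
  generalize h0 * (h0⁻¹ * h1)⁻¹ = g at e2 hr hm
  have hu : g * s.u 0 = s.u 0 * g := by
    have z1 : g * s.u 0 * g⁻¹ * (s.u 0)⁻¹ ∈ zpowers s.c := F'.esz.comm_mem g hm _ (uQ 0)
    have z2 := fix (Co.comm_zpowers (s.cr 0).symm _ z1)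
    have z3 := Co.comm_zpowers (F3.fc_Qa (uQ 0)) _ z1
    rw [cmul', cmul', cmul', fix hr.symm, cjinv (fix hr.symm), s.ru, cjinv' (s.ru 0)] at z2
    have z4 := F'.esz.pow_eq_one_of_mem_zpowers z1
    generalize hz : g * s.u 0 * g⁻¹ * (s.u 0)⁻¹ = z at z1 z2 z3 z4
    have z5 : g * s.u 0 * g⁻¹ = z * s.u 0 := by rw [← hz, inv_mul_cancel_right]
    rw [cjinv z5, ← z3, mul_inv_rev, inv_mul_cancel_right, ← inv3 z4, mul_eq_left] at z2
    rw [← mul_inv_eq_iff_eq_mul, z5, z2, one_mul]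
  have wL := s.P_L (by decide) hw
  refine ⟨w⁻¹ * g, mul_mem (inv_mem wL) ⟨mem_cen.2 hu, mem_cen.2 hr⟩, ?_⟩
  rw [show w⁻¹ * g * a * (w⁻¹ * g)⁻¹ = w⁻¹ * (g * a * g⁻¹) * w by group, e2]
  rcases hy with k | k <;> rw [k, hc']
  · exact .inl (by group)
  · exact .inr (by group)

theorem fc_c12 : zpowers s.c ≤ normalizer ((s.toF3.P 1 ⊔ s.toF3.P 2 : Subgroup G) : Set G) := zpowers_le.2 (by
  rw [← cj_eq_iff, cj_sup, cj_eq_iff.2 (s.fc_normP s.ca s.cpm 1), cj_eq_iff.2 (s.fc_normP s.ca s.cpm 2)])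

theorem fc_T {y : G} (hy : y ∈ s.toF3.P 1 ⊔ s.toF3.P 2 ⊔ zpowers s.c) :
    y ∈ s.toF3.P 1 ⊔ s.toF3.P 2 ∨ ∃ q ∈ s.toF3.P 1 ⊔ s.toF3.P 2, y = q * s.c ∨ y⁻¹ = q * s.c := by
  obtain ⟨q, hq, k, hk, rfl⟩ := (Loc.mem_sup_iff_of_le_normalizer' s.fc_c12).1 hy
  rcases T16.mem_zpowers_three s.c3 hk with rfl | rfl | rfl
  · exact .inl (by simpa using hq)
  · exact .inr ⟨q, hq, .inl rfl⟩
  · exact .inr ⟨_, conj_mem_of_mem_norm (s.fc_c12 (mem_zpowers _)) (inv_mem hq), .inr (by group)⟩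

theorem fc_P {i : Fin 3} {q : G} (hq : q ∈ s.toF3.P i) :
    ∃ d ∈ zpowers (s.u i) ⊔ zpowers a, ∃ w ∈ zpowers (s.v i), q = d * w := by
  have hu := s.uP i
  have hv := s.vP i
  have h1 : sf (s.vec (s.u i)) (s.vec (s.v i)) ≠ 0 := fun e => s.fc_uv i ((s.commute_iff hu.1 hv.1).2 e).symm
  rw [sf, Finset.sum_eq_single i (fun k _ e => by rw [hu.2 k e]; simp) (by simp)] at h1
  obtain ⟨j, m, e⟩ := span2 _ _ (s.vec q i) h1
  have hw : s.u i ^ j.val * s.v i ^ m.val ∈ s.toF3.P i := mul_mem (pow_mem hu _) (pow_mem hv _)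
  have h2 : s.vec q = s.vec (s.u i ^ j.val * s.v i ^ m.val) := funext fun k => by
    by_cases e' : k = i
    · rw [e', e, s.vec_mul _ (pow_mem hu.1 _) _ (pow_mem hv.1 _), s.vec_pow hu.1, s.vec_pow hv.1]; rfl
    · rw [hq.2 k e', hw.2 k e']
  exact ⟨q * (s.u i ^ j.val * s.v i ^ m.val)⁻¹ * s.u i ^ j.val,
    mul_mem (mem_sup_right ((s.vec_eq hq.1 hw.1).1 h2)) (mem_sup_left (pow_mem (mem_zpowers _) _)),
    s.v i ^ m.val, pow_mem (mem_zpowers _) _, by group⟩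

theorem fc_vcube {i : Fin 3} {w : G} (hw : w ∈ zpowers (s.v i)) : w = 1 ∨ (w * s.c) ^ 3 = a := by
  have v3 := s.cube _ (s.vP i).1
  have h1 := cinv (F3.fc_Qa (s.uP i).1).symm
  have h2 := cinv s.ca.symm
  have h3 := s.cu i
  have h4 := cinv h3.symm
  have h5 := cinv (F3.fc_Qa (inv_mem (s.uP i).1)).symm
  have c3 := s.c3
  have a3 := s.esz.z_pow
  rw [pow_three'] at c3
  have fin : s.c * s.c * s.c * (a * a)⁻¹ = a := by rw [c3, inv3 a3, inv_inv, one_mul]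
  rcases T16.mem_zpowers_three v3 hw with rfl | rfl | rfl
  · exact .inl rfl
  · refine .inr ?_
    calc _ = s.v i * s.c * (s.v i)⁻¹ * (s.v i * s.v i * s.c * s.v i) * s.c := by
          simp only [pow_succ, pow_zero]; group
      _ = s.c * (s.u i)⁻¹ * a⁻¹ * (s.c * s.u i * a⁻¹) * s.c := by rw [inv3 v3, s.vc, s.fc_vc']
      _ = s.c * s.c * s.c * (a * a)⁻¹ := by
          simp only [mul_assoc, mul_inv_rev, h2, NE.comm_assoc h1, NE.comm_assoc h2, NE.comm_assoc h4,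
            inv_mul_cancel_left]
      _ = a := fin
  · refine .inr ?_
    calc _ = (s.v i)⁻¹ * s.c * s.v i * ((s.v i * s.v i)⁻¹ * s.c * (s.v i)⁻¹) * s.c := by
          simp only [pow_succ, pow_zero]; group
      _ = s.c * s.u i * a⁻¹ * (s.c * (s.u i)⁻¹ * a⁻¹) * s.c := by rw [inv3 v3, inv_inv, s.vc, s.fc_vc']
      _ = s.c * s.c * s.c * (a * a)⁻¹ := by
          simp only [mul_assoc, mul_inv_rev, h2, NE.comm_assoc h5, NE.comm_assoc h2, NE.comm_assoc h3.symm,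
            mul_inv_cancel_left]
      _ = a := fin

/-- The centraliser of `r₀` in `J`. -/
abbrev B0 : Subgroup G := zpowers s.c ⊔ (zpowers (s.u 2) ⊔ (zpowers (s.u 1) ⊔ zpowers a))

theorem fc_B0 : Nat.card s.B0 = 81 ∧ (∀ x ∈ s.B0, ∀ y ∈ s.B0, x * y = y * x) ∧ s.B0 ≤ centralizer {s.r 0} := by
  have u1 := s.uP 1
  have u2 := s.uP 2
  have u12 := s.fc_PP (by decide) u2 u1
  have hD : zpowers (s.u 1) ⊔ zpowers a ≤ s.toF3.P 1 := sup_le (zpowers_le.2 u1) (s.fc_zP 1)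
  have nu : ∀ i, s.u i ∉ zpowers a := fun i h => s.fc_uv i (Co.comm_zpowers (F3.fc_Qa (s.vP i).1) _ h)
  have ou : ∀ i, orderOf (s.u i) = 3 := fun i => ord3 (s.cube _ (s.uP i).1) fun e => nu i (e ▸ one_mem _)
  have k : ∀ {g : G}, g * s.c = s.c * g → g * s.u 2 = s.u 2 * g → g * s.u 1 = s.u 1 * g → g * a = a * g →
      ∀ y ∈ s.B0, g * y = y * g := fun h1 h2 h3 h4 => Co.comm_sup (Co.comm_zpowers h1)
    (Co.comm_sup (Co.comm_zpowers h2) (Co.comm_sup (Co.comm_zpowers h3) (Co.comm_zpowers h4)))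
  have kc := k rfl (s.cu 2) (s.cu 1) s.ca
  have k2 := k (s.cu 2).symm rfl u12 (F3.fc_Qa u2.1)
  have k1 := k (s.cu 1).symm u12.symm rfl (F3.fc_Qa u1.1)
  have ka := k s.ca.symm (F3.fc_Qa u2.1).symm (F3.fc_Qa u1.1).symm rfl
  refine ⟨?_, fun x hx => k (kc x hx).symm (k2 x hx).symm (k1 x hx).symm (ka x hx).symm, fun x hx => mem_cen.2
    (k (s.cr 0).symm (s.r_P (by decide) u2) (s.r_P (by decide) u1) (s.fc_ra 0) x hx).symm⟩
  rw [LB.card_sup_zp (ord3 s.c3 s.fc_c1) (fun y hy => kc y (mem_sup_right hy))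
      fun h => s.fc_cQ (sup_le (zpowers_le.2 u2.1) (fun x hx => (hD hx).1) h),
    LB.card_sup_zp (ou 2) (fun y hy => k2 y (mem_sup_right (mem_sup_right hy)))
      fun h => nu 2 (s.fc_z u2 ((hD h).2 2 (by decide))),
    LB.card_sup_zp (ou 1) (Co.comm_zpowers (F3.fc_Qa u1.1)) (nu 1), s.esz.card_zpowers]

theorem fc_qc {q : G} (hq : q ∈ s.toF3.P 1 ⊔ s.toF3.P 2) (h : (q * s.c) ^ 3 = 1) : q * s.c ∈ s.B0 := by
  obtain ⟨p, hp, p', hp', rfl⟩ := s.fc_dec12 hq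
  obtain ⟨d, hd, w, hw, rfl⟩ := s.fc_P hp
  obtain ⟨d', hd', w', hw', rfl⟩ := s.fc_P hp'
  have hD : ∀ i, zpowers (s.u i) ⊔ zpowers a ≤ s.toF3.P i := fun i => sup_le (zpowers_le.2 (s.uP i)) (s.fc_zP i)
  have w1 : w ∈ s.toF3.P 1 := zpowers_le.2 (s.vP 1) hw
  have w2 : w' ∈ s.toF3.P 2 := zpowers_le.2 (s.vP 2) hw'
  have b1 : d ∈ s.B0 := mem_sup_right (mem_sup_right hd)
  have b2 : d' ∈ s.B0 := mem_sup_right (SetLike.le_def.1 (sup_le_sup_left le_sup_right _) hd')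
  have bc : s.c ∈ s.B0 := mem_sup_left (mem_zpowers _)
  have e : d * w * (d' * w') * s.c = d * d' * (w * w' * s.c) := by
    have := s.fc_PP (by decide) w1 (hD 2 hd')
    simp only [mul_assoc, NE.comm_assoc this]
  rw [e, s.fc_cube s.ca (mul_mem (hD 1 hd).1 (hD 2 hd').1) (mul_mem w1.1 w2.1) (s.fc_B0.2.1 _ bc _ (mul_mem b1 b2))] at h
  have n1 := s.fc_normP s.ca s.cpm 1
  have n2 := s.fc_normP s.ca s.cpm 2
  have e2 : (w * w' * s.c) ^ 3 = (w * s.c) ^ 3 * (w' * s.c) ^ 3 := by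
    have x1 := conj_mem_of_mem_norm n1 w1
    have x2 := conj_mem_of_mem_norm n1 x1
    have y1 := conj_mem_of_mem_norm n2 w2
    rw [FC.cube, FC.cube, FC.cube, s.c3, cmul', cmul']
    have c1 := s.fc_PP (by decide) w2 x1
    have c2 := s.fc_PP (by decide) w2 x2
    have c3 := s.fc_PP (by decide) y1 x2
    generalize s.c * (s.c * w * s.c⁻¹) * s.c⁻¹ = A at *
    generalize s.c * (s.c * w' * s.c⁻¹) * s.c⁻¹ = B at *
    generalize s.c * w * s.c⁻¹ = C at *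
    generalize s.c * w' * s.c⁻¹ = D at *
    simp only [mul_assoc, mul_one, NE.comm_assoc c1, NE.comm_assoc c2, NE.comm_assoc c3]
  rw [e2] at h
  rw [e]
  rcases s.fc_vcube hw with rfl | k <;> rcases s.fc_vcube hw' with rfl | k'
  · simpa using mul_mem (mul_mem b1 b2) bc
  · rw [k', one_mul, s.c3, one_mul] at h; exact absurd h s.fc_a1
  · rw [k, one_mul, s.c3, mul_one] at h; exact absurd h s.fc_a1
  · rw [k, k'] at h; exact absurd h s.fc_aa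

end FJ

end Cfsg.Agent.E3
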