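import Mathlib
import Cfsg.Agent.T3.LocB

/-!
The letters `U6` from a given decomposition, with all letters prescribed.
-/

set_option autoImplicit false
set_option linter.unusedSectionVars false

namespace Cfsg.Agent.E3.UL0

open Cfsg.Agent.Spor Cfsg.Agent.Rec Cfsg.Agent.Inv.Fz Cfsg.Agent.T16 Cfsg.Agent.GT.PG Subgroup
open Cfsg.Agent.T3 Cfsg.Agent.T3.LB

universe u

variable {G : Type u} [Group G] [Finite G] {a : G} {N : Subgroup G} {D : Dx a N} {c : N}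

theorem frame' (h : D.St c) : ∃ (f : Fr G) (q : G), f.v = D.y1 ∧ f.t = D.t1 ∧ f.a = a ∧ f.c3 = c ∧ f.c1 * f.c2⁻¹ = D.x1 ∧ f.R = D.P1 ∧ f.CaR q ∧
    f.Q1 q = D.R1 ∧ f.J = zpowers (c : G) ⊔ (zpowers D.x1 ⊔ zpowers a) := by
  have cx : Commute (c : G) D.x1 := h.cx
  have ca : Commute (c : G) a := D.ca c
  have xa : Commute D.x1 a := D.ex.comm_a D.xQ
  have ya : Commute D.y1 a := D.ex.comm_a D.yQ
  have x3 := D.x3
  have a3 := D.es.z_pow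
  have c3 := h.pr.x3
  have vx : D.y1 * D.x1 * D.y1⁻¹ = D.x1 * a⁻¹ := by
    calc _ = D.x1 * (D.x1⁻¹ * (D.x1 * D.y1 * D.x1⁻¹ * D.y1⁻¹)⁻¹ * D.x1) := by group
      _ = _ := by rw [D.fac1.xy, mul_assoc, ← xa.inv_right.eq]; group
  have va : D.y1 * a * D.y1⁻¹ = a := by rw [ya.eq]; group
  obtain ⟨ea, eu, b1, b2, b3, b4⟩ := ab3 cx ca xa c3 x3 a3
  have hJ : clos [c * D.x1⁻¹ * a⁻¹, c * D.x1 * a⁻¹, (c : G)] = zpowers (c : G) ⊔ (zpowers D.x1 ⊔ zpowers a) := by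
    have m1 : (c : G) ∈ zpowers (c : G) ⊔ (zpowers D.x1 ⊔ zpowers a) := mem_sup_left (mem_zpowers _)
    have m2 : D.x1 ∈ zpowers (c : G) ⊔ (zpowers D.x1 ⊔ zpowers a) := mem_sup_right (mem_sup_left (mem_zpowers _))
    have m3 : a ∈ zpowers (c : G) ⊔ (zpowers D.x1 ⊔ zpowers a) := mem_sup_right (mem_sup_right (mem_zpowers _))
    refine le_antisymm (clos_le.2 ?_) ?_
    · simp only [List.forall_mem_cons, List.not_mem_nil, false_imp_iff, implies_true, and_true]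
      exact ⟨mul_mem (mul_mem m1 (inv_mem m2)) (inv_mem m3), mul_mem (mul_mem m1 m2) (inv_mem m3), m1⟩
    · simp only [sup_le_iff, zpowers_le]
      have n1 : c * D.x1⁻¹ * a⁻¹ ∈ clos [c * D.x1⁻¹ * a⁻¹, c * D.x1 * a⁻¹, (c : G)] := mem_clos (by simp)
      have n2 : c * D.x1 * a⁻¹ ∈ clos [c * D.x1⁻¹ * a⁻¹, c * D.x1 * a⁻¹, (c : G)] := mem_clos (by simp)
      have n3 : (c : G) ∈ clos [c * D.x1⁻¹ * a⁻¹, c * D.x1 * a⁻¹, (c : G)] := mem_clos (by simp)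
      have n4 := mul_mem n1 (inv_mem n2)
      have n5 := mul_mem (mul_mem n1 n2) n3
      rw [eu] at n4
      rw [ea] at n5
      exact ⟨n3, n4, n5⟩
  let f : Fr G :=
    { c1 := c * D.x1⁻¹ * a⁻¹, c2 := c * D.x1 * a⁻¹, c3 := c, v := D.y1, t := D.t1
      c1_3 := b1
      c12 := b2
      v3 := D.y3
      t2 := D.fac1.t2
      tv := D.fac1.ty
      vc1 := by rw [← conj_mul, ← conj_mul, ← conj_inv, ← conj_inv, h.vc, vx, va, b3]
      vc2 := by rw [← conj_mul, ← conj_mul, ← conj_inv, h.vc, vx, va, b4]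
      tc1 := by
        rw [← conj_mul, ← conj_mul, ← conj_inv, ← conj_inv, D.fac1.tx, D.ta, ← h.t1]; group
      tc3 := by rw [← h.t1]; group
      card := by
        rw [hJ]
        exact card27 D.ex.ord (D.ord1 D.p1.hx D.xz) h.pr.ord xa ca cx D.xz fun hm =>
          h.pr.nQ ((sup_le (zpowers_le.2 D.xQ) (zpowers_le.2 D.ex.mem) : _ ≤ Q3 a) hm) }
  obtain ⟨q, hq, e⟩ := D.surj1 ww_rel.1
  have hq' : c * q * (c : G)⁻¹ ∈ D.R1 := D.nR h.t1 h.t2 hq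
  have car : f.CaR q := by
    refine ⟨D.eqR (r := q * q) (s := D.T1) (mul_mem hq hq) D.fac1.t_mem (by rw [map_mul, e, D.neg1, ww_rel.2.1]),
      by rw [Fr.a, ea]; exact D.ca q, ?_, ?_, ?_⟩
    · rw [eu]
      refine eq_of_inv D.ex D.ta ya D.fac1.ty ?_ ?_
      · calc _ = D.t1 * q * D.x1 * (D.t1 * q)⁻¹ := by group
          _ = q * (D.t1 * D.x1 * D.t1⁻¹) * (q : G)⁻¹ := by rw [← D.rt hq]; group
          _ = _ := by rw [D.fac1.tx]; group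
      · have := (D.fac1.act q).1
        rw [e] at this
        simpa [ww, ZMod.val_one] using this
    · exact D.eqR (r := q * (c * q * c⁻¹) * q⁻¹) (s := (c * q * c⁻¹)⁻¹) (mul_mem (mul_mem hq hq') (inv_mem hq)) (inv_mem hq')
        (by simp only [map_mul, map_inv, e, h.h1, ww_rel.2.2.1])
    · exact D.eqR (r := c * (c * q * c⁻¹) * c⁻¹) (s := q * (c * q * c⁻¹)) (D.nR h.t1 h.t2 hq') (mul_mem hq hq')
        (by simp only [map_mul, map_inv, e, h.h1, ww_rel.2.2.2])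
  obtain ⟨C, hC⟩ := car.cod
  refine ⟨f, q, rfl, rfl, ea, rfl, eu, ?_, car, eq_of_le_of_card_ge (clos_le.2 ?_) (by rw [(Fr.gQ6 hC).2, D.fac1.cardR]), hJ⟩
  · rw [Fr.R, Fr.a, ea, eu, D.fac1.P_eq]
  · simp only [List.forall_mem_cons, List.not_mem_nil, false_imp_iff, implies_true, and_true]
    exact ⟨hq, hq'⟩

theorem u6_of_st (h : D.St c) (perm : D.toDec.Perm) : ∃ s : U6 G, s.a = a ∧ s.c = c ∧ s.u1 = D.x1 ∧ s.u2 = D.x2 ∧
    s.f1.v = D.y1 ∧ s.f2.v = D.y2 ∧ s.f1.t = D.t1 ∧ s.f2.t = D.t2 ∧ s.f1.R = D.P1 ∧ s.f2.R = D.P2 ∧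
    s.f1.Q1 s.q1 = D.R1 ∧ s.f2.Q1 s.q2 = D.R2 ∧ s.Perm := by
  obtain ⟨f1, q1, v1, t1, a1, c1, u1, R1, car1, Q1, J1⟩ := frame' h
  obtain ⟨f2, q2, v2, t2, a2, c2, u2, R2, car2, Q2, J2⟩ := frame' h.symm
  replace u2 : f2.c1 * f2.c2⁻¹ = D.x2 := u2
  replace R2 : f2.R = D.P2 := R2
  replace Q2 : f2.Q1 q2 = D.R2 := Q2
  replace J2 : f2.J = zpowers (c : G) ⊔ (zpowers D.x2 ⊔ zpowers a) := J2
  obtain ⟨d, d3, dc, d2, dψ, dk, d1⟩ := h.exists_d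
  have eJ : f1.J ⊔ f2.J = J4 a c := by
    rw [J1, J2]
    refine le_antisymm ?_ (h.J_le (mem_sup_left (mem_sup_left (mem_zpowers _)))
      (mem_sup_left (mem_sup_right (mem_sup_left (mem_zpowers _))))
      (mem_sup_right (mem_sup_right (mem_sup_left (mem_zpowers _))))
      (mem_sup_right (mem_sup_right (mem_sup_right (mem_zpowers _)))))
    simp only [sup_le_iff, zpowers_le]
    exact ⟨⟨h.m_J.1, h.m_J.2.1, h.m_J.2.2.2⟩, h.m_J.1, h.m_J.2.2.1, h.m_J.2.2.2⟩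
  obtain ⟨k1, k2, k3⟩ := CC_mem (f := f1) (q := q1)
  obtain ⟨-, k4, k5⟩ := CC_mem (f := f2) (q := q2)
  rw [c1] at k1
  rw [R1] at k2
  rw [Q1] at k3
  rw [R2] at k4
  rw [Q2] at k5
  refine ⟨⟨f1, f2, q1, q2, d, a2.trans a1.symm, c2.trans c1.symm, car1, car2, ?_, a1 ▸ D.ex, a1 ▸ h.pr.wc, ?_, ?_, ?_, ?_, ?_, ?_,
    d3, ?_, ?_, ?_, ?_, ?_, ?_, ?_⟩, a1, c1, u1, u2, v1, v2, t1, t2, R1, R2, Q1, Q2, fun g hg => ?_⟩
  · rw [R1, R2, Q1, Q2]; exact D.comm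
  · rw [R1, R2, a1]; exact D.sup
  · rw [a1, c1]; exact h.pr.ze
  · rw [u1, c1]; exact h.xQ
  · rw [u2, c1]; exact h.symm.xQ
  · rw [eJ, c1]; exact h.Qc
  · rw [eJ, c1, a1]; exact h.Dc
  · rw [c1]; exact dc
  · rw [R2, Q2]; exact d2
  · rw [R1, Q1, c1]; exact d1.imp (congrArg Subtype.val) fun h => h.2.2
  · rw [a1, R1]
    intro g ga gn
    obtain ⟨r2, i, k, hr2, -, r1, hr1, q, hq, e⟩ := h.dec dk ⟨g, D.stab g ga gn⟩
    rw [show g = _ from e]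
    exact mul_mem (mem_sup_left (mul_mem (mul_mem (mul_mem (mem_sup_right (k5 hr2)) (mem_sup_left (pow_mem k1 _)))
      (mem_sup_left (k3 hr1))) (sup_le_sup k2 k4 (D.sup ▸ hq)))) (mem_sup_right (pow_mem (mem_zpowers _) _))
  · rw [a1, u2]
    intro g ga gu
    obtain ⟨r2, i, k, hr2, e0, r1, hr1, q, hq, e⟩ := h.dec dk ⟨g, D.fix g ga _ (Or.inr D.p2.hx) D.symm.xz gu⟩
    obtain ⟨e1, e2⟩ : D.ψ2 _ 0 0 = 1 ∧ D.ψ2 _ 1 0 = 0 := D.symm.col1
      (g := ⟨g, D.fix g ga _ (Or.inr D.p2.hx) D.symm.xz gu⟩) (i := 1) (j := 0) (by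
        change g * D.x2 * g⁻¹ * (D.x2 ^ (1 : ZMod 3).val * D.y2 ^ (0 : ZMod 3).val)⁻¹ ∈ _
        rw [gu]; simp [ZMod.val_one])
    rw [e0] at e1 e2
    rw [D.fac2.inj r2 hr2 (s_fix _ i (D.symm.r4 hr2).1 e1 e2), coe_one, one_mul] at e
    obtain ⟨p1, hp1, p2, hp2, rfl⟩ := D.sp.dec q hq
    have w : Commute ((c : G) ^ i.val * r1 * p1) D.x2 :=
      (((show Commute (c : G) D.x2 from h.symm.cx).pow_left _).mul_left
        (D.comm r1 (mem_sup_right hr1) _ (mem_sup_left D.p2.hx))).mul_left (D.c12 p1 hp1 _ D.p2.hx)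
    have w' := (w.inv_left.mul_left (show Commute g D.x2 from gu)).mul_left
      ((show Commute (d : G) D.x2 from d2 _ (mem_sup_left D.p2.hx)).pow_left k.val).inv_left
    replace e : g = _ := e
    rw [show ((c : G) ^ i.val * r1 * p1)⁻¹ * g * ((d : G) ^ k.val)⁻¹ = p2 by rw [e]; group] at w'
    obtain ⟨z, hz, j, rfl⟩ := cen_w D.p2.es D.p2.card D.p2.hx D.symm.xz hp2 w'
    rw [e]
    exact mul_mem (mem_sup_left (mul_mem (mem_sup_right (mul_mem (pow_mem k1 _) (k3 hr1)))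
      (mul_mem (mem_sup_right (k2 hp1)) (mul_mem (mem_sup_right (k2 (D.p1.es.zpowers_le hz)))
        (mem_sup_left (pow_mem (mem_zpowers _) _)))))) (mem_sup_right (pow_mem (mem_zpowers _) _))
  · rw [eJ, a1, c1]; exact fun g => norm_J4
  · rw [eJ, a1, c1]
    intro y hy hz
    by_cases yz : y ∈ zpowers a
    · exact Or.inl yz
    refine h.ze0 ?_ hz
    rw [sup_comm] at hy
    obtain ⟨e, he, j, hj, rfl⟩ := (mem_sup_iff_of_le_normalizer (zpowers_le.2 (norm_J4 (D.ca d) dc))).1 hy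
    rcases d1 with d1 | ⟨d1, -, -⟩
    · rw [d1, coe_one, zpowers_one_eq_bot, mem_bot] at he
      rwa [he, one_mul]
    obtain ⟨k, rfl⟩ := exists_val (orderOf_eq_prime d3 fun e => absurd (by
      rw [← d1, show d = 1 from Subtype.ext e, map_one]) (by decide +kernel : tv 1 ≠ 1)) he
    obtain ⟨i, δ, hδ, -, rfl⟩ := mem_J4 h.pr hj
    have := (D.same h.alt (x := d ^ k.val * (c ^ i.val * ⟨δ, D.QN hδ⟩)) ⟨h.pr.toHy, hz, D.ca _, yz⟩ (k1 := k + i) (k2 := i)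
      (by rw [map_mul, map_mul, map_pow, map_pow, d1, h.h1, D.oneQ (g := ⟨δ, _⟩) hδ, tv_pow, tv_pow, mul_one, tv_mul]; simp)
      (by rw [map_mul, map_mul, map_pow, map_pow, dψ, h.h2, show D.ψ2 ⟨δ, _⟩ = 1 from D.symm.oneQ hδ, tv_pow]; simp)).1
    rwa [show k = 0 by simpa using this, ZMod.val_zero, pow_zero, one_mul]
  · change g * f1.a = f1.a * g at hg
    change g ∈ normalizer (f1.R : Set G) ∨ cj g f1.R = f2.R ∧ cj g f2.R = f1.R
    rw [a1] at hg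
    rw [R1, R2]
    exact (perm g hg).imp (fun h => D.n1 ⟨g, h⟩) id

end Cfsg.Agent.E3.UL0
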