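import Mathlib

/-!
Signed permutations of three letters, as permutations of six points.
-/

set_option autoImplicit false
set_option maxRecDepth 100000
set_option synthInstance.maxSize 2048

namespace Cfsg.Agent.E3.SP

open Equiv

abbrev V3 := Fin 3 → ZMod 3

abbrev P6 := Perm (Fin 6)

/-- The six vectors `± eᵢ`. -/
def bv : Fin 6 → V3 := ![![1, 0, 0], ![0, 1, 0], ![0, 0, 1], ![2, 0, 0], ![0, 2, 0], ![0, 0, 2]]

/-- The linear map given by a signed permutation. -/
def act (p : P6) (a : V3) : V3 := a 0 • bv (p 0) + a 1 • bv (p 1) + a 2 • bv (p 2)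

def io : P6 := swap 0 3 * swap 1 4 * swap 2 5

def T : Fin 3 → P6 := ![swap 0 3, swap 1 4, swap 2 5]

def s : P6 := swap 0 1 * swap 1 2 * (swap 3 4 * swap 4 5)

def u : P6 := swap 1 2 * swap 4 5

def m (a b c : Fin 2) (k : Fin 3) : P6 := T 0 ^ a.val * T 1 ^ b.val * T 2 ^ c.val * s ^ k.val

def lo : Fin 3 → Fin 6 := ![0, 1, 2]

def hi : Fin 3 → Fin 6 := ![3, 4, 5]

theorem six : ∀ k : Fin 6, ∃ i, k = lo i ∨ k = hi i := by decide

theorem bv_hi : ∀ i, bv (hi i) = -bv (lo i) := by decide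

theorem bv_io : ∀ k, bv (io k) = -bv k := by decide

theorem bv_inj : Function.Injective bv := by decide

theorem io_lo : ∀ i, io (lo i) = hi i := by decide

theorem T_lo : ∀ i j, T i (lo j) = if j = i then hi j else lo j := by decide

theorem s_lo : ∀ i, s (lo i) = lo (i + 1) := by decide

theorem T_io : ∀ i, T i * io = io * T i := by decide

theorem s_io : s * io = io * s := by decide

theorem s_ne : s ≠ 1 := by decide

theorem s_ord : orderOf s = 3 := orderOf_eq_prime (by decide) s_ne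

theorem enum : ∀ p : P6, p * io = io * p → ∃ a b c k, p = m a b c k ∨ p = m a b c k * u := by decide +kernel

theorem ind {Φ : P6 → Prop} (h : ∀ a b c k, Φ (m a b c k) ∧ Φ (m a b c k * u)) (p : P6) (hp : p * io = io * p) :
    Φ p := by
  obtain ⟨a, b, c, k, rfl | rfl⟩ := enum p hp
  exacts [(h a b c k).1, (h a b c k).2]

theorem card48 : Nat.card {p : P6 | p * io = io * p} = 48 := by
  rw [Nat.card_eq_fintype_card]; decide +kernel

theorem card16 : Nat.card {p : P6 | p * io = io * p ∧ p * T 0 = T 0 * p} = 16 := by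
  rw [Nat.card_eq_fintype_card]; decide +kernel

theorem card8 : Nat.card {p : P6 | p * io = io * p ∧ p * u = u * p} = 8 := by
  rw [Nat.card_eq_fintype_card]; decide +kernel

theorem card8' : Nat.card {p : P6 | p * T 0 = T 0 * p ∧ ∃ a b c k, p = m a b c k} = 8 := by
  rw [Nat.card_eq_fintype_card]; decide +kernel

theorem fixT : Nat.card {a : V3 | act (T 0) a = a} = 9 := by
  rw [Nat.card_eq_fintype_card]; decide +kernel

theorem fixu : Nat.card {a : V3 | act u a = a} = 9 := by
  rw [Nat.card_eq_fintype_card]; decide +kernel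

theorem three_conj : ∀ p : P6, p * io = io * p → p ^ 3 = 1 →
    ∃ a b c k, ∃ l : Fin 3, m a b c k * p * (m a b c k)⁻¹ = s ^ l.val := ind (by decide +kernel)

theorem three_fix : ∀ p : P6, p * io = io * p → p ^ 3 = 1 → p ≠ 1 →
    (Finset.univ.filter fun a : V3 => act p a = a).card = 3 := ind (by decide +kernel)

theorem three_z : ∀ p : P6, p * io = io * p → p ^ 3 = 1 →
    ∃ a b c k, act p (act (m a b c k) 1) = act (m a b c k) 1 := ind (by decide +kernel)

theorem orb : ∀ v : V3, v ≠ 0 → ∃ a b c k, v = act (m a b c k) ![1, 0, 0] ∨ v = act (m a b c k) ![1, 1, 0] ∨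
    v = act (m a b c k) 1 := by decide +kernel

theorem four_T : ∀ i, ∀ p : P6, p * io = io * p → p * T i = T i * p → p ^ 4 = 1 := fun i =>
  ind (by revert i; decide +kernel)

theorem four_TT : ∀ p : P6, p * io = io * p → p * (T 0 * T 1) = T 0 * T 1 * p → p ^ 4 = 1 ∧ p * T 2 * p⁻¹ = T 2 :=
  ind (by decide +kernel)

theorem two_u : ∀ p : P6, p * io = io * p → p * u = u * p → p * p = 1 := ind (by decide +kernel)

theorem two_m : ∀ a b c k, m a b c k * T 0 = T 0 * m a b c k → m a b c k * m a b c k = 1 := by decide +kernel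

theorem cen_T : ∀ p : P6, p * io = io * p → (∀ a, act (T 0) a = a → act p a = a) → p = 1 ∨ p = T 0 :=
  ind (by decide +kernel)

theorem cen_u : ∀ p : P6, p * io = io * p → (∀ a, act u a = a → act p a = a) → p = 1 ∨ p = u :=
  ind (by decide +kernel)

theorem fpf : ∀ p : P6, p * io = io * p → p * p = 1 → p = T 0 * T 1 * T 2 ∨ ∃ a, a ≠ 0 ∧ act p a = a :=
  ind (by decide +kernel)

theorem conj_T : ∀ p : P6, p * io = io * p → p * T 0 * p⁻¹ = T 0 ∨
    ∃ a b c k, m a b c k * (T 0 * T 1) * (m a b c k)⁻¹ = p * T 0 * p⁻¹ * T 0 := ind (by decide +kernel)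

theorem fix_TTT : ∀ a : V3, act (T 2) a = a → act (T 0 * T 1) a = a → a = 0 := by decide +kernel

theorem s6 : ∀ P ∈ [1, swap 0 1, swap 0 1 * swap 2 3, swap (0 : Fin 6) 1 * swap 2 3 * swap 4 5],
    ∀ q : P6, q * P = P * q → q ^ 3 = 1 → q ≠ 1 → P = 1 ∨
      ∃ a ∈ [swap 2 3 * swap 3 4, swap 0 2 * swap 2 4 * (swap 1 3 * swap (3 : Fin 6) 5)],
      ∃ b ∈ [swap 3 4 * swap 4 5, swap 1 2 * swap 2 4 * (swap 0 3 * swap (3 : Fin 6) 5)],
        a ^ 3 = 1 ∧ b ^ 3 = 1 ∧ a * P = P * a ∧ b * P = P * b ∧ a * b ≠ b * a := by decide +kernel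

end Cfsg.Agent.E3.SP
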