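import Mathlib
import Cfsg.Agent.E3.W3m

/-! Involutions among the signed permutations of three letters. -/

set_option autoImplicit false
set_option maxRecDepth 100000
set_option synthInstance.maxSize 2048

namespace Cfsg.Agent.E3.SP

open Equiv

theorem cw16 : ∀ p : P6, p * io = io * p → p * p = 1 → p ≠ 1 → ∀ q : P6, q * io = io * q → q * q = 1 → q ≠ 1 →
    p * q * (p * q) = 1 → p * q ≠ 1 → ∃ k, p k = io k ∨ q k = io k ∨ (p * q) k = io k := by
  refine ind fun a b c k => ⟨fun h1 h2 => ind ?_, fun h1 h2 => ind ?_⟩ <;> revert a b c k <;> decide +kernel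

theorem cwT : ∀ p : P6, p * io = io * p → p * T 0 * p⁻¹ * (T 0)⁻¹ * (p * T 0 * p⁻¹ * (T 0)⁻¹) = 1 :=
  ind (by decide +kernel)

/-- Index set for the signed permutations. -/
abbrev Ix := Fin 2 × Fin 2 × Fin 2 × Fin 3 × Bool

/-- The signed permutation with given index. -/
def el (x : Ix) : P6 := cond x.2.2.2.2 (m x.1 x.2.1 x.2.2.1 x.2.2.2.1 * u) (m x.1 x.2.1 x.2.2.1 x.2.2.2.1)

theorem exists_el {p : P6} (h : p * io = io * p) : ∃ x, el x = p := by
  obtain ⟨a, b, c, k, rfl | rfl⟩ := enum p h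
  exacts [⟨(a, b, c, k, false), rfl⟩, ⟨(a, b, c, k, true), rfl⟩]

theorem cw8a : (Finset.univ.filter fun x : Ix => ∀ k, el x k = k ∨ el x k = io k).card ≤ 8 := by decide +kernel

theorem cw8b : ∀ p : P6, p * io = io * p → p * p = 1 → ¬ (∀ k, p k = k ∨ p k = io k) →
    (Finset.univ.filter fun x : Ix => el x * el x = 1 ∧ el x * p * (el x * p) = 1).card ≤ 8 :=
  ind (by decide +kernel)

theorem cw8 {B : Set P6} (h1 : ∀ p ∈ B, p * io = io * p) (h2 : ∀ p ∈ B, p * p = 1)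
    (h3 : ∀ p ∈ B, ∀ q ∈ B, p * q * (p * q) = 1) : ∃ A : Finset P6, A.card ≤ 8 ∧ ∀ p ∈ B, p ∈ A := by
  by_cases h : ∀ p ∈ B, ∀ k, p k = k ∨ p k = io k
  · refine ⟨_, (Finset.card_image_le (f := el)).trans cw8a, fun p hp => ?_⟩
    obtain ⟨x, rfl⟩ := exists_el (h1 p hp)
    exact Finset.mem_image_of_mem _ (Finset.mem_filter.2 ⟨Finset.mem_univ _, h _ hp⟩)
  · obtain ⟨q, hq⟩ := not_forall.1 h
    obtain ⟨hq, hq'⟩ := Classical.not_imp.1 hq
    refine ⟨_, (Finset.card_image_le (f := el)).trans (cw8b q (h1 q hq) (h2 q hq) hq'), fun p hp => ?_⟩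
    obtain ⟨x, rfl⟩ := exists_el (h1 p hp)
    exact Finset.mem_image_of_mem _ (Finset.mem_filter.2 ⟨Finset.mem_univ _, h2 _ hp, h3 _ hp _ hq⟩)

end Cfsg.Agent.E3.SP
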